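import Groth.Prelude.Def_Pi1
import Mathlib

/-!
# Rational sections of integral morphisms over normal schemes
-/

universe u

open CategoryTheory CategoryTheory.Limits AlgebraicGeometry TopologicalSpace

namespace Groth.Agent.Lib.TorsorSch.RatSection

variable {X : Scheme.{u}} [IsIntegral X]

/-- A morphism to `X` with nonempty source which is an open immersion contains the generic point,
so the source is irreducible with dominant generic point. -/
theorem exists_fac_fromSpecStalk {W : Scheme.{u}} (r : W ⟶ X) [IsOpenImmersion r] [Nonempty W] :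
    ∃ d : Spec X.functionField ⟶ W, IsDominant d ∧ d ≫ r = X.fromSpecStalk (genericPoint X) := by
  have : IsIntegral W := isIntegral_of_isOpenImmersion r
  have hη : r (genericPoint W) = genericPoint X := genericPoint_eq_of_isOpenImmersion r
  have hr : Set.range (X.fromSpecStalk (genericPoint X)) ⊆ Set.range r := by
    rw [Scheme.range_fromSpecStalk]
    intro x hx
    exact ⟨genericPoint W, hη.trans (hx.antisymm (genericPoint_specializes x)).eq.symm⟩
  let d := IsOpenImmersion.lift r (X.fromSpecStalk (genericPoint X)) hr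
  have hd : d ≫ r = X.fromSpecStalk (genericPoint X) := IsOpenImmersion.lift_fac _ _ _
  refine ⟨d, ⟨?_⟩, hd⟩
  have hg : d (IsLocalRing.closedPoint _) = genericPoint W := by
    apply r.isOpenEmbedding.injective
    rw [← Scheme.Hom.comp_apply, hd, Scheme.fromSpecStalk_closedPoint, hη]
  rw [DenseRange, dense_iff_closure_eq, Set.eq_univ_iff_forall]
  intro w
  refine closure_mono (s := {genericPoint W})
    (Set.singleton_subset_iff.mpr (Set.mem_range.mpr ⟨IsLocalRing.closedPoint (X.presheaf.stalk (genericPoint X)), hg⟩)) ?_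
  rw [genericPoint_closure]
  exact Set.mem_univ w

/-- Two morphisms to a separated `X`-scheme from an open piece of `X` which agree at the generic
point are equal. -/
theorem ext_of_genericPoint {W Y : Scheme.{u}} (f : Y ⟶ X) [IsSeparated f] (r : W ⟶ X)
    [IsOpenImmersion r] {a b : W ⟶ Y} (ha : a ≫ f = r) (hb : b ≫ f = r)
    (h : ∀ d : Spec X.functionField ⟶ W, d ≫ r = X.fromSpecStalk (genericPoint X) →
      d ≫ a = d ≫ b) : a = b := by
  cases isEmpty_or_nonempty W
  · exact (isInitialOfIsEmpty (X := W)).hom_ext _ _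
  have : IsIntegral W := isIntegral_of_isOpenImmersion r
  obtain ⟨d, _, hd⟩ := exists_fac_fromSpecStalk r
  exact ext_of_isDominant_of_isSeparated f (ha.trans hb.symm) d (h d hd)

theorem isIntegrallyClosed_of_isNormalScheme (hX : Pi1.IsNormalScheme X) {U : X.Opens}
    (hU : IsAffineOpen U) [Nonempty U] : IsIntegrallyClosed Γ(X, U) := by
  refine IsIntegrallyClosed.of_localization_maximal fun P _ _ ↦ ?_
  let y : PrimeSpectrum Γ(X, U) := ⟨P, inferInstance⟩
  let x : U := ⟨hU.fromSpec y, hU.range_fromSpec.subset ⟨y, rfl⟩⟩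
  have := hU.isLocalization_stalk x
  have hy : hU.primeIdealOf x = y := by
    apply hU.fromSpec.isOpenEmbedding.injective
    exact hU.fromSpec_primeIdealOf x
  rw [hy] at this
  let := (X.presheaf.germ U x.1 x.2).hom.toAlgebra
  have := (hX x.1).2
  exact IsIntegrallyClosed.of_equiv
    (IsLocalization.algEquiv P.primeCompl (X.presheaf.stalk x.1) (Localization.AtPrime P)).toRingEquiv

set_option backward.isDefEq.respectTransparency false in
/-- Over an affine open, a rational section of an integral morphism to a normal scheme extends. -/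
theorem exists_section_affine (hX : Pi1.IsNormalScheme X) {Y : Scheme.{u}} (f : Y ⟶ X)
    [IsIntegralHom f] (t : Spec X.functionField ⟶ Y)
    (ht : t ≫ f = X.fromSpecStalk (genericPoint X)) {U : X.Opens} (hU : IsAffineOpen U)
    [Nonempty U] :
    ∃ s : (U : Scheme.{u}) ⟶ Y, s ≫ f = U.ι ∧
      ∀ d : Spec X.functionField ⟶ U, d ≫ U.ι = X.fromSpecStalk (genericPoint X) → d ≫ s = t := by
  have := isIntegrallyClosed_of_isNormalScheme hX hU
  have := functionField_isFractionRing_of_isAffineOpen X U hU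
  have hη : genericPoint X ∈ U :=
    (genericPoint_spec X).mem_open_set_iff U.2 |>.mpr (by simpa using ‹Nonempty U›)
  let V := f ⁻¹ᵁ U
  have hV : IsAffineOpen V := hU.preimage f
  have hr : Set.range t ⊆ Set.range hV.fromSpec := by
    rw [hV.range_fromSpec]
    rintro _ ⟨z, rfl⟩
    change f (t z) ∈ U
    rw [← Scheme.Hom.comp_apply, ht]
    have : X.fromSpecStalk (genericPoint X) z ⤳ genericPoint X := by
      have h := Set.mem_range_self (f := X.fromSpecStalk (genericPoint X)) z
      rwa [Scheme.range_fromSpecStalk] at h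
    exact this.mem_open U.2 hη
  let φ := Spec.preimage (IsOpenImmersion.lift hV.fromSpec t hr)
  have hφ : Spec.map φ ≫ hV.fromSpec = t := by
    rw [Spec.map_preimage, IsOpenImmersion.lift_fac]
  have hφ' : f.app U ≫ φ = X.germToFunctionField U := by
    apply Spec.map_injective
    rw [← cancel_mono hU.fromSpec, Spec.map_comp, Category.assoc, Scheme.Hom.app_eq_appLE,
      IsAffineOpen.SpecMap_appLE_fromSpec f hU hV le_rfl, ← Category.assoc, hφ, ht]
    exact (hU.fromSpecStalk_eq_fromSpecStalk hη).symm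
  have hmem : ∀ b, φ.hom b ∈ (algebraMap Γ(X, U) X.functionField).range := by
    intro b
    have hb := f.isIntegral_app U hU b
    refine IsIntegrallyClosed.algebraMap_eq_of_integral ?_ |>.elim fun a ha ↦ ⟨a, ha⟩
    obtain ⟨p, hp, hpb⟩ := hb
    refine ⟨p, hp, ?_⟩
    have := congr(φ.hom $hpb)
    rwa [Polynomial.hom_eval₂, map_zero, ← CommRingCat.hom_comp, hφ'] at this
  choose ψ hψ using hmem
  have hinj : Function.Injective (algebraMap Γ(X, U) X.functionField) :=
    IsFractionRing.injective _ _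
  let Ψ : Γ(Y, V) →+* Γ(X, U) :=
    { toFun := ψ
      map_one' := hinj (by rw [hψ, map_one, map_one])
      map_mul' := fun a b ↦ hinj (by rw [hψ, map_mul, map_mul, hψ, hψ])
      map_zero' := hinj (by rw [hψ, map_zero, map_zero])
      map_add' := fun a b ↦ hinj (by rw [hψ, map_add, map_add, hψ, hψ]) }
  have hΨ : CommRingCat.ofHom Ψ ≫ X.germToFunctionField U = φ := by
    ext b; exact hψ b
  have hΨ' : f.app U ≫ CommRingCat.ofHom Ψ = 𝟙 _ := by
    ext a
    apply hinj
    exact (hψ _).trans (ConcreteCategory.congr_hom hφ' a)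
  refine ⟨hU.isoSpec.hom ≫ Spec.map (CommRingCat.ofHom Ψ) ≫ hV.fromSpec, ?_, fun d hd ↦ ?_⟩
  · rw [Category.assoc, Category.assoc, ← IsAffineOpen.SpecMap_appLE_fromSpec f hU hV le_rfl,
      ← Spec.map_comp_assoc, ← Scheme.Hom.app_eq_appLE, hΨ', Spec.map_id, Category.id_comp,
      hU.isoSpec_hom_fromSpec]
  · have : d ≫ hU.isoSpec.hom = Spec.map (X.germToFunctionField U) := by
      rw [← cancel_mono hU.fromSpec, Category.assoc, hU.isoSpec_hom_fromSpec, hd]
      exact (hU.fromSpecStalk_eq_fromSpecStalk hη).symm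
    rw [reassoc_of% this, ← Spec.map_comp_assoc, hΨ, hφ]

/-- A rational section of an integral morphism to an integral normal scheme extends to a
section. -/
theorem exists_section (hX : Pi1.IsNormalScheme X) {Y : Scheme.{u}} (f : Y ⟶ X)
    [IsIntegralHom f] (t : Spec X.functionField ⟶ Y)
    (ht : t ≫ f = X.fromSpecStalk (genericPoint X)) :
    ∃ σ : X ⟶ Y, σ ≫ f = 𝟙 X ∧ X.fromSpecStalk (genericPoint X) ≫ σ = t := by
  let I := {U : X.Opens // IsAffineOpen U ∧ Nonempty U}
  have hI : ⨆ U : I, U.1 = ⊤ := by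
    refine Opens.ext (Set.eq_univ_of_forall fun x ↦ ?_)
    obtain ⟨U, hU, hx, -⟩ := Opens.isBasis_iff_nbhd.mp X.isBasis_affineOpens (Opens.mem_top x)
    simp only [Opens.coe_iSup, Set.mem_iUnion]
    exact ⟨⟨U, hU, ⟨⟨x, hx⟩⟩⟩, hx⟩
  choose s hs hs' using fun U : I ↦ (have := U.2.2; exists_section_affine hX f t ht U.2.1)
  let 𝒰 := X.openCoverOfIsOpenCover (fun U : I ↦ U.1) hI
  let σ : X ⟶ Y := 𝒰.glueMorphisms s fun U U' ↦ by
    have : IsOpenImmersion (𝒰.f U) := 𝒰.map_prop U
    have : IsOpenImmersion (𝒰.f U') := 𝒰.map_prop U'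
    refine ext_of_genericPoint f (pullback.fst (𝒰.f U) (𝒰.f U') ≫ 𝒰.f U) ?_ ?_ fun d hd ↦ ?_
    · rw [Category.assoc]; exact congrArg _ (hs U)
    · rw [Category.assoc, pullback.condition]; exact congrArg _ (hs U')
    · rw [← Category.assoc, ← Category.assoc]
      exact (hs' U _ ((Category.assoc _ _ _).trans hd)).trans
        (hs' U' _ ((Category.assoc _ _ _).trans ((congrArg (d ≫ ·) pullback.condition.symm).trans hd))).symm
  refine ⟨σ, 𝒰.hom_ext _ _ fun U ↦ ?_, ?_⟩
  · rw [Scheme.Cover.ι_glueMorphisms_assoc, Category.comp_id]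
    exact hs U
  · obtain ⟨U, hU, hx, -⟩ := Opens.isBasis_iff_nbhd.mp X.isBasis_affineOpens
      (Opens.mem_top (genericPoint X))
    let i : I := ⟨U, hU, ⟨⟨_, hx⟩⟩⟩
    have : Nonempty (U : Scheme.{u}) := i.2.2
    obtain ⟨d, -, hd⟩ := exists_fac_fromSpecStalk (Scheme.Opens.ι U)
    rw [← hd, Category.assoc]
    exact (congrArg (d ≫ ·) (Scheme.Cover.ι_glueMorphisms 𝒰 s _ i)).trans (hs' i d hd)

end Groth.Agent.Lib.TorsorSch.RatSection
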