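import Groth.Agent.Lib.TorsorSch.Descent
import Groth.Prelude.Def_ChGrp

/-!
# Pseudo-torsors under group schemes: trivialisation and transfer of properties
-/

universe u

open CategoryTheory MonoidalCategory CartesianMonoidalCategory MonObj AlgebraicGeometry
open CategoryTheory.Limits
open Groth.Agent.Lib.GrpSch Groth.Agent.Lib.TorsorSch.Descent

namespace Groth.Agent.Lib.TorsorSch.Basic

variable {S : Scheme.{u}} {G X X' T : Over S} [GrpObj G] (a : AlgGrp.Action G X)

/-- The morphism `(g, t) ↦ (g • s t, t)` attached to a `T`-point `s` of `X`. -/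
noncomputable def triv (s : T ⟶ X) : G ⊗ T ⟶ X ⊗ T :=
  lift ((G ◁ s) ≫ a.act) (snd G T)

@[reassoc (attr := simp)]
theorem triv_fst (s : T ⟶ X) : triv a s ≫ fst X T = (G ◁ s) ≫ a.act := lift_fst _ _

@[reassoc (attr := simp)]
theorem triv_snd (s : T ⟶ X) : triv a s ≫ snd X T = snd G T := lift_snd _ _

theorem lift_triv {W : Over S} (g : W ⟶ G) (t : W ⟶ T) (s : T ⟶ X) :
    lift g t ≫ triv a s = lift (lift g (t ≫ s) ≫ a.act) t := by
  simp [triv, comp_lift, lift_whiskerLeft_assoc]

/-- A pseudo-torsor with a `T`-point is trivial over `T`. -/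
theorem isIso_triv (ha : NonAbH1.IsPseudoTorsorSch a) (s : T ⟶ X) : IsIso (triv a s) := by
  have : IsIso (lift a.act (snd G X)) := ha
  set σ := lift a.act (snd G X)
  set d : X ⊗ T ⟶ G ⊗ X := lift (fst X T) (snd X T ≫ s) ≫ inv σ
  have hd1 : d ≫ a.act = fst X T := by
    have : d ≫ σ ≫ fst X X = fst X T := by simp [d]
    simpa [σ] using this
  have hd2 : d ≫ snd G X = snd X T ≫ s := by
    have : d ≫ σ ≫ snd X X = snd X T ≫ s := by simp [d]
    simpa [σ] using this
  refine ⟨lift (d ≫ fst G X) (snd X T), ?_, ?_⟩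
  · have h : triv a s ≫ d = G ◁ s := by
      rw [← cancel_mono σ]
      simp only [d, Category.assoc, IsIso.inv_hom_id, Category.comp_id]
      simp [σ]
    ext
    · simp [reassoc_of% h]
    · simp
  · have h : lift (d ≫ fst G X) (snd X T ≫ s) = d := by
      ext
      · simp
      · simp [hd2]
    rw [lift_triv, h, hd1]
    exact lift_fst_snd

/-- The shear map of an action is an isomorphism after base change to `T` as soon as the action is
simply transitive relative to a `T`-point. -/
theorem isIso_shear_whiskerRight (s : T ⟶ X) [IsIso (triv a s)] :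
    IsIso ((lift a.act (snd G X)) ▷ T) := by
  set W := (X ⊗ X) ⊗ T with hW
  set τ : W ⟶ T := snd _ _
  set y : W ⟶ X := fst _ _ ≫ fst _ _
  set x : W ⟶ X := fst _ _ ≫ snd _ _
  set d : X ⊗ T ⟶ G := inv (triv a s) ≫ fst G T
  have hd : ∀ {V : Over S} (z : V ⟶ X) (t : V ⟶ T),
      lift (lift z t ≫ d) (t ≫ s) ≫ a.act = z := by
    intro V z t
    have h : lift z t ≫ inv (triv a s) = lift (lift z t ≫ d) t := by
      ext
      · simp [d]
      · rw [lift_snd, Category.assoc]
        have : inv (triv a s) ≫ snd G T = snd X T := by rw [IsIso.inv_comp_eq]; simp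
        rw [this, lift_snd]
    have h' := (lift_triv a (lift z t ≫ d) t s).symm
    rw [← h, Category.assoc, IsIso.inv_hom_id, Category.comp_id] at h'
    simpa using congr($h' ≫ fst X T)
  have huniq : ∀ {V : Over S} (g : V ⟶ G) (t : V ⟶ T),
      lift (lift g (t ≫ s) ≫ a.act) t ≫ d = g := by
    intro V g t
    rw [← lift_triv]
    simp [d]
  refine ⟨lift (lift ((lift y τ ≫ d) * (lift x τ ≫ d)⁻¹) x) τ, ?_, ?_⟩
  · ext
    · simp only [Category.assoc, lift_fst, Category.id_comp, comp_mul, GrpObj.comp_inv,
        comp_lift_assoc]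
      set g : (G ⊗ X) ⊗ T ⟶ G := fst _ _ ≫ fst _ _
      set z : (G ⊗ X) ⊗ T ⟶ X := fst _ _ ≫ snd _ _
      set t : (G ⊗ X) ⊗ T ⟶ T := snd _ _
      have e1 : (lift a.act (snd G X)) ▷ T ≫ y = lift g z ≫ a.act := by
        simp [y, g, z, ← comp_lift]
      have e2 : (lift a.act (snd G X)) ▷ T ≫ x = z := by simp [x, z]
      have e3 : (lift a.act (snd G X)) ▷ T ≫ τ = t := by simp [τ, t]
      rw [e1, e2, e3]
      have e4 : lift (lift g z ≫ a.act) t ≫ d = g * (lift z t ≫ d) := by
        conv_lhs => rw [← hd z t, ← act_mul]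
        rw [huniq]
      rw [e4, mul_inv_cancel_right]
    · simp [x]
    · simp [τ]
  · ext
    · simp only [Category.assoc, whiskerRight_fst, lift_fst_assoc, lift_fst, Category.id_comp]
      rw [act_mul, ← act_eq_iff a _ _ _ |>.mp (hd x τ), hd]
    · simp [x]
    · simp [τ]

open Groth.Agent.Lib.TorsorSch.Descent in
/-- Local simple transitivity along an fpqc covering makes a pseudo-torsor. -/
theorem isPseudoTorsorSch_of_triv {R : Presieve S} (hR : R ∈ Scheme.fpqcPrecoverage S)
    (h : ∀ ⦃S' : Scheme.{u}⦄ (g : S' ⟶ S), R g → ∃ s : Over.mk g ⟶ X, IsIso (triv a s)) :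
    NonAbH1.IsPseudoTorsorSch a := by
  have : IsIso (lift a.act (snd G X)).left :=
    of_presieve (P := MorphismProperty.isomorphisms Scheme.{u}) hR (lift a.act (snd G X))
      fun S' g hg ↦ by
        obtain ⟨s, hs⟩ := h g hg
        have := isIso_shear_whiskerRight a s
        exact (inferInstance : IsIso ((Over.forget S).map
          (lift a.act (snd G X) ▷ Over.mk g)))
  exact (isIso_iff_of_reflects_iso (lift a.act (snd G X)) (Over.forget S)).mp this

/-- An equivariant morphism of torsors is an isomorphism. -/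
theorem isIso_of_isEquivariant {a : AlgGrp.Action G X} {a' : AlgGrp.Action G X'}
    (ha : NonAbH1.IsTorsorFor Scheme.fpqcPrecoverage a) (ha' : NonAbH1.IsPseudoTorsorSch a')
    (f : X ⟶ X') (hf : AlgGrp.Action.IsEquivariant a a' f) : IsIso f := by
  have : IsIso f.left :=
    of_forall_whiskerRight (P := MorphismProperty.isomorphisms Scheme.{u}) ha.2 f fun {T} s ↦ by
      have e : triv a s ≫ f ▷ T = triv a' (s ≫ f) := by
        ext
        · simp only [Category.assoc, whiskerRight_fst, triv_fst_assoc, triv_fst]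
          rw [hf, whiskerLeft_comp, Category.assoc]
        · simp
      have := isIso_triv a ha.1 s
      have := isIso_triv a' ha' (s ≫ f)
      have : IsIso (triv a s ≫ f ▷ T) := e ▸ this
      have : IsIso (f ▷ T) := IsIso.of_isIso_comp_left (triv a s) _
      exact (inferInstance : IsIso ((Over.forget S).map (f ▷ T)))
  exact (isIso_iff_of_reflects_iso f (Over.forget S)).mp this

/-- A property of morphisms which is fpqc local on the target passes from the group to its
torsors. -/
theorem of_hom {P : MorphismProperty Scheme.{u}} [IsZariskiLocalAtTarget P]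
    [P.IsStableUnderBaseChange] [P.DescendsAlong (@Surjective ⊓ @Flat ⊓ @QuasiCompact)]
    {a : AlgGrp.Action G X} (ha : NonAbH1.IsTorsorFor Scheme.fpqcPrecoverage a) (hG : P G.hom) :
    P X.hom := by
  have key : P (toUnit X).left := of_forall_whiskerRight (P := P) ha.2 (toUnit X) fun {T} s ↦ by
    have := isIso_triv a ha.1 s
    have : IsIso (triv a s).left := (inferInstance : IsIso ((Over.forget S).map (triv a s)))
    have : IsIso (λ_ T).hom.left := (inferInstance : IsIso ((Over.forget S).map (λ_ T).hom))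
    have h1 : P (snd X T).left := by
      rw [← P.cancel_left_of_respectsIso (triv a s).left, ← Over.comp_left, triv_snd]
      exact snd_left_of T hG
    have h2 : (toUnit X ▷ T) ≫ snd (𝟙_ (Over S)) T = snd X T := whiskerRight_snd _ _
    rw [← P.cancel_right_of_respectsIso _ (λ_ T).hom.left, ← Over.comp_left, leftUnitor_hom, h2]
    exact h1
  simpa using key

end Groth.Agent.Lib.TorsorSch.Basic
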