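import Groth.Agent.Lib.FEt.NormalCover
import Groth.Agent.Lib.TorsorSch.RatSection

/-!
# Rational sections of étale separated specializing morphisms over normal schemes
-/

universe u

open CategoryTheory CategoryTheory.Limits AlgebraicGeometry TopologicalSpace

namespace Groth.Agent.Lib.TorsorSch.RatSectionEtale

/-- Étale morphisms are locally quasi-finite. -/
instance (priority := 900) locallyQuasiFinite_of_etale {X Y : Scheme.{u}} (f : X ⟶ Y) [Etale f] :
    LocallyQuasiFinite f := by
  refine ⟨fun {U} hU {V} hV e ↦ ?_⟩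
  have h1 := HasRingHomProperty.appLE @FormallyUnramified f inferInstance ⟨U, hU⟩ ⟨V, hV⟩ e
  have h2 := HasRingHomProperty.appLE @LocallyOfFiniteType f inferInstance ⟨U, hU⟩ ⟨V, hV⟩ e
  algebraize [(f.appLE U V e).hom]
  have : Algebra.FormallyUnramified Γ(Y, U) Γ(X, V) := h1
  have : Algebra.FiniteType Γ(Y, U) Γ(X, V) := h2
  exact (inferInstance : Algebra.QuasiFinite Γ(Y, U) Γ(X, V))

/-- Morphisms from a field to `X` with image the generic point factor through its stalk. -/
theorem exists_lift_fromSpecStalk (X : Scheme.{u}) [IsIntegral X] {L : Type u} [Field L]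
    (r : Spec (CommRingCat.of L) ⟶ X) (hr : r (IsLocalRing.closedPoint L) = genericPoint X) :
    ∃ π : Spec (CommRingCat.of L) ⟶ Spec X.functionField,
      π ≫ X.fromSpecStalk (genericPoint X) = r := by
  obtain ⟨⟨z, φ⟩, rfl⟩ := (X.SpecToEquivOfField L).symm.surjective r
  obtain rfl : z = genericPoint X := by simpa using hr
  refine ⟨Spec.map (X.residue (genericPoint X) ≫ φ), ?_⟩
  simp [Scheme.SpecToEquivOfField, Scheme.fromSpecResidueField, Spec.map_comp]

/-- Field-valued points of an étale scheme over the generic point through a rational point. -/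
theorem eq_comp_of_rational (X : Scheme.{u}) [IsIntegral X] {Y : Scheme.{u}} (p : Y ⟶ X) [Etale p]
    (t : Spec X.functionField ⟶ Y) (ht : t ≫ p = X.fromSpecStalk (genericPoint X))
    {L : Type u} [Field L] (h : Spec (CommRingCat.of L) ⟶ Y)
    (π : Spec (CommRingCat.of L) ⟶ Spec X.functionField)
    (hπ : h ≫ p = π ≫ X.fromSpecStalk (genericPoint X))
    (hpt : h (IsLocalRing.closedPoint L) = t (IsLocalRing.closedPoint X.functionField)) :
    h = π ≫ t := by
  let η := X.fromSpecStalk (genericPoint X)
  let u' := pullback.lift (f := p) (g := η) t (𝟙 _) (by rw [Category.id_comp, ht])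
  let v := pullback.lift (f := p) (g := η) h π hπ
  have : Etale (u' ≫ pullback.snd p η) := by rw [pullback.lift_snd]; infer_instance
  have : Etale u' := Etale.of_comp u' (pullback.snd p η)
  have : Mono (u' ≫ pullback.snd p η) := by rw [pullback.lift_snd]; infer_instance
  have : Mono u' := mono_of_mono u' (pullback.snd p η)
  have : IsOpenImmersion u' := IsOpenImmersion.of_flat_of_mono u'
  have : IsPreimmersion (pullback.fst p η) :=
    MorphismProperty.pullback_fst (P := @IsPreimmersion) _ _ inferInstance
  have hv : Set.range v ⊆ Set.range u' := by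
    rintro _ ⟨z, rfl⟩
    refine ⟨IsLocalRing.closedPoint _, (pullback.fst p η).isEmbedding.injective ?_⟩
    rw [Subsingleton.elim (α := PrimeSpectrum L) z (IsLocalRing.closedPoint L),
      ← Scheme.Hom.comp_apply]
    change (u' ≫ pullback.fst p η) _ = (v ≫ pullback.fst p η) _
    rw [pullback.lift_fst, pullback.lift_fst]
    exact hpt.symm
  have e := IsOpenImmersion.lift_fac u' v hv
  have e1 : IsOpenImmersion.lift u' v hv = π := by
    have := congr($e ≫ pullback.snd p η)
    rwa [Category.assoc, pullback.lift_snd, pullback.lift_snd, Category.comp_id] at this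
  rw [e1] at e
  have := congr($e.symm ≫ pullback.fst p η)
  rwa [Category.assoc, pullback.lift_fst, pullback.lift_fst] at this

variable {X : Scheme.{u}} [IsIntegral X] (hX : Pi1.IsNormalScheme X) {Y : Scheme.{u}} (p : Y ⟶ X)
  [Etale p]

theorem eq_of_specializes_fibre {g a : Y} (hg : p g = genericPoint X) (ha : p a = genericPoint X)
    (h : g ⤳ a) : g = a := by
  have hd := p.isDiscrete_preimage_singleton (genericPoint X)
  have := hd.to_subtype
  have h' : (⟨g, hg⟩ : (p ⁻¹' {genericPoint X} : Set Y)) ⤳ ⟨a, ha⟩ :=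
    Topology.IsInducing.subtypeVal.specializes_iff.mp h
  exact congrArg Subtype.val h'.eq

include hX in
/-- Every point has exactly one generalization over the generic point. -/
theorem existsUnique_generalization (y : Y) : ∃! g : Y, p g = genericPoint X ∧ g ⤳ y := by
  obtain ⟨a, hay, ha⟩ := Flat.generalizingMap p (genericPoint_specializes (p y))
  have := (Groth.Agent.Lib.FEt.NormalCover.isNormalScheme_of_etale hX p y).1
  refine ⟨a, ⟨ha, hay⟩, ?_⟩
  have key : ∀ b : Y, p b = genericPoint X → b ⤳ y →
      b = Y.fromSpecStalk y (genericPoint (Spec (Y.presheaf.stalk y))) := by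
    intro b hb hby
    obtain ⟨t, rfl⟩ : b ∈ Set.range (Y.fromSpecStalk y) := by
      rw [Scheme.range_fromSpecStalk]; exact hby
    have hsp := (genericPoint_specializes t).map (Y.fromSpecStalk y).continuous
    refine (eq_of_specializes_fibre p ?_ hb hsp).symm
    exact ((hsp.map p.continuous).trans (hb ▸ specializes_rfl)).antisymm
      (genericPoint_specializes _) |>.eq
  rintro b ⟨hb, hby⟩
  rw [key b hb hby, key a ha hay]

include hX in
theorem isOpen_closure {g : Y} (hg : p g = genericPoint X) : IsOpen (closure {g}) := by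
  rw [isOpen_iff_forall_mem_open]
  intro y hy
  obtain ⟨V, hV, hyV, -⟩ := Opens.isBasis_iff_nbhd.mp Y.isBasis_affineOpens (Opens.mem_top y)
  obtain ⟨U, hU, hyU, -⟩ := Opens.isBasis_iff_nbhd.mp X.isBasis_affineOpens (Opens.mem_top (p y))
  obtain ⟨W, hW, hyW, hWle⟩ := Opens.isBasis_iff_nbhd.mp Y.isBasis_affineOpens
    (show y ∈ V ⊓ p ⁻¹ᵁ U from ⟨hyV, hyU⟩)
  have hfin : ((W : Set Y) ∩ p ⁻¹' {genericPoint X}).Finite := by
    have := hd_finite p hW hU (hWle.trans inf_le_right)
    exact this
  refine ⟨(W : Set Y) \ ⋃ h ∈ ((W : Set Y) ∩ p ⁻¹' {genericPoint X}) \ {g}, closure {h}, ?_,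
    W.2.sdiff ((hfin.subset Set.diff_subset).isClosed_biUnion fun _ _ ↦ isClosed_closure),
    hyW, ?_⟩
  · rintro z ⟨hzW, hz⟩
    obtain ⟨h, ⟨hh, hhz⟩, -⟩ := existsUnique_generalization hX p z
    rw [← specializes_iff_mem_closure]
    by_contra hne
    exact hz (Set.mem_biUnion (x := h) ⟨⟨hhz.mem_open W.2 hzW, hh⟩, fun e ↦ hne (e ▸ hhz)⟩
      (specializes_iff_mem_closure.mp hhz))
  · simp only [Set.mem_iUnion, not_exists]
    rintro h ⟨⟨-, hh⟩, hne⟩ hhy
    exact hne ((existsUnique_generalization hX p y).unique ⟨hh, specializes_iff_mem_closure.mpr hhy⟩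
      ⟨hg, specializes_iff_mem_closure.mpr hy⟩)
where
  hd_finite {W : Y.Opens} {U : X.Opens} (p : Y ⟶ X) [Etale p] (hW : IsAffineOpen W)
      (hU : IsAffineOpen U) (hle : W ≤ p ⁻¹ᵁ U) :
      ((W : Set Y) ∩ p ⁻¹' {genericPoint X}).Finite := by
    have h := (p.isDiscrete_preimage_singleton (genericPoint X)).mono
      (t := (W : Set Y) ∩ p ⁻¹' {genericPoint X}) Set.inter_subset_right
    have : IsAffine (W : Scheme.{u}) := hW
    have : IsAffine (U : Scheme.{u}) := hU
    have : LocallyQuasiFinite (p.resLE U W hle) := inferInstance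
    by_cases hη : genericPoint X ∈ U
    · have hf := (p.resLE U W hle).finite_preimage_singleton ⟨_, hη⟩
      refine (hf.image W.ι).subset ?_
      rintro z ⟨hzW, hz⟩
      refine ⟨⟨z, hzW⟩, ?_, rfl⟩
      apply Subtype.ext
      exact congr($(Scheme.Hom.resLE_comp_ι p hle) ⟨z, hzW⟩).trans hz
    · refine Set.finite_empty.subset ?_
      rintro z ⟨hzW, hz⟩
      exact hη (hz ▸ hle hzW)

include hX in
/-- A rational section of an étale separated specializing morphism to a normal integral scheme
extends to a section. -/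
theorem exists_section [IsSeparated p] (hsp : SpecializingMap p)
    (t : Spec X.functionField ⟶ Y) (ht : t ≫ p = X.fromSpecStalk (genericPoint X)) :
    ∃ σ : X ⟶ Y, σ ≫ p = 𝟙 X ∧ X.fromSpecStalk (genericPoint X) ≫ σ = t := by
  set x := t (IsLocalRing.closedPoint X.functionField) with hx
  have hpx : p x = genericPoint X := by
    rw [hx, ← Scheme.Hom.comp_apply, ht]; exact Scheme.fromSpecStalk_closedPoint
  let Z : Y.Opens := ⟨closure {x}, isOpen_closure hX p hpx⟩
  let q : (Z : Scheme.{u}) ⟶ X := Z.ι ≫ p
  have : Etale q := inferInstance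
  have : IsSeparated q := inferInstance
  have hxZ : x ∈ Z := subset_closure rfl
  have hrange : Set.range t ⊆ Set.range Z.ι := by
    rintro _ ⟨z, rfl⟩
    rw [Scheme.Opens.range_ι]
    rwa [Subsingleton.elim (α := PrimeSpectrum X.functionField) z (IsLocalRing.closedPoint _)]
  let t' : Spec X.functionField ⟶ Z := IsOpenImmersion.lift Z.ι t hrange
  have ht' : t' ≫ Z.ι = t := IsOpenImmersion.lift_fac _ _ _
  have hone : ∀ z : Z, q z = genericPoint X → Z.ι z = x := fun z hz ↦
    (eq_of_specializes_fibre p hpx hz (specializes_iff_mem_closure.mpr z.2)).symm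
  -- the fibre of `q` over the generic point is the rational point
  have hpt : ∀ {L : Type u} [Field L] (h : Spec (CommRingCat.of L) ⟶ (Z : Scheme.{u}))
      (π : Spec (CommRingCat.of L) ⟶ Spec X.functionField),
      h ≫ q = π ≫ X.fromSpecStalk (genericPoint X) → h = π ≫ t' := by
    intro L _ h π hπ
    rw [← cancel_mono Z.ι, Category.assoc, ht']
    have hhx : (h ≫ Z.ι) (IsLocalRing.closedPoint L) = x := by
      refine hone _ ?_
      change (h ≫ q) _ = _
      rw [hπ, Scheme.Hom.comp_apply]
      exact (congrArg (X.fromSpecStalk (genericPoint X))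
        (Subsingleton.elim (α := PrimeSpectrum X.functionField) _ _)).trans
          Scheme.fromSpecStalk_closedPoint
    refine eq_comp_of_rational X p t ht (h ≫ Z.ι) π ?_ hhx
    rw [Category.assoc, hπ]
  have hdiag : IsIso (pullback.diagonal q) := by
    have : IsOpenImmersion (pullback.diagonal q) := inferInstance
    suffices Surjective (pullback.diagonal q) by
      exact (isomorphisms_eq_isOpenImmersion_inf_surjective ▸ ⟨inferInstance, this⟩ :
        MorphismProperty.isomorphisms Scheme.{u} (pullback.diagonal q))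
    refine ⟨fun w ↦ ?_⟩
    obtain ⟨g, ⟨hg, hgw⟩, -⟩ :=
      existsUnique_generalization hX (pullback.fst q q ≫ q) w
    have hgr : g ∈ Set.range (pullback.diagonal q) := by
      set h := (pullback q q).fromSpecResidueField g
      obtain ⟨π, hπ⟩ : ∃ π : Spec ((pullback q q).residueField g) ⟶ Spec X.functionField,
          π ≫ X.fromSpecStalk (genericPoint X) = h ≫ pullback.fst q q ≫ q := by
        refine exists_lift_fromSpecStalk X (L := (pullback q q).residueField g)
          (h ≫ pullback.fst q q ≫ q) ?_
        rw [Scheme.Hom.comp_apply, Scheme.fromSpecResidueField_apply]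
        exact hg
      have e1 := hpt (L := (pullback q q).residueField g) (h ≫ pullback.fst q q) π
        (by rw [Category.assoc, ← hπ])
      have e2 := hpt (L := (pullback q q).residueField g) (h ≫ pullback.snd q q) π
        (by rw [Category.assoc, ← pullback.condition, ← hπ])
      have : h = (π ≫ t') ≫ pullback.diagonal q := by
        apply pullback.hom_ext <;> simp [e1, e2]
      refine ⟨(π ≫ t') (IsLocalRing.closedPoint _), ?_⟩
      rw [← Scheme.Hom.comp_apply, ← this]
      exact Scheme.fromSpecResidueField_apply _ _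
    exact hgw.mem_closed (pullback.diagonal q).isClosedEmbedding.isClosed_range hgr
  have : Mono q := (MorphismProperty.diagonal_isomorphisms (C := Scheme.{u}) ▸ hdiag :
    MorphismProperty.monomorphisms Scheme.{u} q)
  have : IsOpenImmersion q := IsOpenImmersion.of_flat_of_mono q
  have : Surjective q := by
    refine ⟨fun s ↦ ?_⟩
    obtain ⟨z, hxz, hz⟩ := hsp (a := x) (b := s) (hpx.symm ▸ genericPoint_specializes s)
    exact ⟨⟨z, specializes_iff_mem_closure.mp hxz⟩, hz⟩
  have : IsIso q := (isomorphisms_eq_isOpenImmersion_inf_surjective ▸ ⟨‹IsOpenImmersion q›, this⟩ :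
    MorphismProperty.isomorphisms Scheme.{u} q)
  refine ⟨inv q ≫ Z.ι, by simp [q], ?_⟩
  have : t' ≫ q = X.fromSpecStalk (genericPoint X) := by rw [← ht, ← ht', Category.assoc]
  rw [← this, Category.assoc, IsIso.hom_inv_id_assoc, ht']

end Groth.Agent.Lib.TorsorSch.RatSectionEtale
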