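import Groth.Prelude.Def_ActBC
import Groth.Agent.Lib.TorsorSch.Basic
import Groth.Agent.Lib.TorsorSch.RatSection
import Groth.Agent.Lib.TorsorSch.RatSectionEtale

/-!
# Torsors over normal integral schemes
-/

universe u

open CategoryTheory MonoidalCategory CartesianMonoidalCategory MonObj AlgebraicGeometry
open CategoryTheory.Limits TopologicalSpace

namespace Groth.Agent.Lib.TorsorSch.NormalBase

instance descendsAlong_mono :
    (MorphismProperty.monomorphisms Scheme.{u}).DescendsAlong
      (@Surjective ⊓ @Flat ⊓ @QuasiCompact) := by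
  rw [← MorphismProperty.diagonal_isomorphisms]
  infer_instance

instance descendsAlong_isClosedImmersion :
    MorphismProperty.DescendsAlong @IsClosedImmersion.{u}
      (@Surjective ⊓ @Flat ⊓ @QuasiCompact) := by
  rw [IsClosedImmersion.eq_isFinite_inf_mono]
  infer_instance

instance descendsAlong_isSeparated :
    MorphismProperty.DescendsAlong @IsSeparated.{u} (@Surjective ⊓ @Flat ⊓ @QuasiCompact) := by
  rw [IsSeparated.isSeparated_eq_diagonal_isClosedImmersion]
  infer_instance

/-- Base changes of étale schemes over a field are specializing. -/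
theorem specializingMap_snd {k : Type u} [Field k] {G T : Scheme.{u}}
    (g : G ⟶ Spec (CommRingCat.of k)) [Etale g] (t : T ⟶ Spec (CommRingCat.of k)) :
    SpecializingMap (pullback.snd g t) := by
  intro w b hb
  have : IsArtinianScheme (Spec (CommRingCat.of k)) := inferInstance
  have : LocallyQuasiFinite g := inferInstance
  have : IsLocallyArtinian G := IsLocallyArtinian.of_locallyQuasiFinite g
  have : DiscreteTopology G := inferInstance
  let U : G.Opens := ⟨{pullback.fst g t w}, isOpen_discrete _⟩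
  have : CompactSpace (U : Scheme.{u}) :=
    isCompact_iff_compactSpace.mp (isCompact_singleton (x := pullback.fst g t w))
  have : QuasiCompact (U.ι ≫ g) := (quasiCompact_iff_compactSpace _).mpr inferInstance
  have : IsFinite (U.ι ≫ g) := IsFinite.of_locallyQuasiFinite _
  let j : pullback (U.ι ≫ g) t ⟶ pullback g t :=
    pullback.map _ _ _ _ U.ι (𝟙 _) (𝟙 _) (by simp) (by simp)
  have hj : j ≫ pullback.snd g t = pullback.snd (U.ι ≫ g) t :=
    (pullback.lift_snd _ _ _).trans (Category.comp_id _)
  obtain ⟨w₀, hw₀⟩ : w ∈ Set.range j := by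
    rw [Scheme.Pullback.range_map]
    simp only [Set.mem_inter_iff, Set.mem_preimage, Scheme.Opens.range_ι, Set.mem_range]
    exact ⟨rfl, pullback.snd g t w, rfl⟩
  have hs : SpecializingMap (pullback.snd (U.ι ≫ g) t) :=
    (pullback.snd (U.ι ≫ g) t).isClosedMap.specializingMap
  obtain ⟨z, hz, hzb⟩ := hs (a := w₀) (b := b)
    (by rw [← hj, Scheme.Hom.comp_apply, hw₀]; exact hb)
  exact ⟨j z, hw₀ ▸ hz.map j.continuous, by rw [← Scheme.Hom.comp_apply, hj, hzb]⟩

variable {S : Scheme.{u}} {G X : Over S} [GrpObj G] {a : AlgGrp.Action G X}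

/-- A torsor is specializing over the base as soon as all base changes of the group are. -/
theorem specializingMap_hom (ha : NonAbH1.IsTorsorFor Scheme.fppfPrecoverage a)
    (hG : ∀ T : Over S, SpecializingMap (snd G T).left) : SpecializingMap X.hom := by
  obtain ⟨hp, R, hR, hs⟩ := ha
  intro e b hb
  obtain ⟨𝒰, rfl⟩ := Precoverage.mem_iff_exists_zeroHypercover.mp
    (show R ∈ Scheme.precoverage (@Flat ⊓ @LocallyOfFinitePresentation) _ from hR)
  obtain ⟨i, t, ht⟩ := Scheme.Cover.exists_eq 𝒰 b
  obtain ⟨s, hs⟩ := hs _ (Presieve.ofArrows.mk i)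
  have : Flat (𝒰.f i) := (Scheme.Cover.map_prop (P := @Flat ⊓ @LocallyOfFinitePresentation) 𝒰 i).1
  let T : Over S := Over.mk (𝒰.f i)
  let s' : T ⟶ X := Over.homMk s hs
  obtain ⟨t', ht', ht'e⟩ := Flat.generalizingMap (𝒰.f i) (ht.symm ▸ hb)
  obtain ⟨w, hw1, hw2⟩ := Scheme.exists_preimage_of_isPullback
    (Groth.Agent.Lib.GrpSch.isPullback_left X T) e t' ht'e.symm
  have := Groth.Agent.Lib.TorsorSch.Basic.isIso_triv a hp s'
  set E := Groth.Agent.Lib.TorsorSch.Basic.triv a s'
  have : IsIso E.left := (inferInstance : IsIso ((Over.forget _).map E))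
  obtain ⟨v, rfl⟩ := E.left.surjective w
  have hv : (snd G T).left v = t' := by
    rw [← hw2, ← Scheme.Hom.comp_apply, ← Over.comp_left,
      Groth.Agent.Lib.TorsorSch.Basic.triv_snd]
  obtain ⟨v', hvv', hv'⟩ := hG T (a := v) (b := t) (hv ▸ ht')
  refine ⟨(fst X T).left (E.left v'), hw1 ▸ (hvv'.map E.left.continuous).map
    (fst X T).left.continuous, ?_⟩
  have h1 : (fst X T).left ≫ X.hom = (snd X T).left ≫ 𝒰.f i :=
    (Groth.Agent.Lib.GrpSch.isPullback_left X T).w
  have h2 : E.left ≫ (snd X T).left = (snd G T).left :=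
    by rw [← Over.comp_left, Groth.Agent.Lib.TorsorSch.Basic.triv_snd]
  calc X.hom ((fst X T).left (E.left v')) = ((fst X T).left ≫ X.hom) (E.left v') := rfl
    _ = (𝒰.f i) ((E.left ≫ (snd X T).left) v') := by rw [h1]; rfl
    _ = b := by rw [h2, hv', ht]

/-- A torsor under a finite group over a normal integral base with a rational section has a
section. -/
theorem hasSectionOver_id_of_finite [IsIntegral S] (hS : Pi1.IsNormalScheme S) [IsFinite G.hom]
    (ha : NonAbH1.IsTorsorFor Scheme.fpqcPrecoverage a)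
    (h : NonAbH1.HasSectionOver X (S.fromSpecStalk (genericPoint S))) :
    NonAbH1.HasSectionOver X (𝟙 S) := by
  have : IsFinite X.hom := Groth.Agent.Lib.TorsorSch.Basic.of_hom (P := @IsFinite) ha inferInstance
  obtain ⟨t, ht⟩ := h
  obtain ⟨σ, hσ, -⟩ := Groth.Agent.Lib.TorsorSch.RatSection.exists_section hS X.hom t ht
  exact ⟨σ, hσ⟩

set_option backward.isDefEq.respectTransparency false in
/-- A rational point of a torsor under a constant étale group over a normal integral base extends
to a section. -/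
theorem exists_section_of_etale {k : Type u} [Field k] (G₀ : Over (Spec (CommRingCat.of k)))
    [GrpObj G₀] [Etale G₀.hom] [IsIntegral S] (hS : Pi1.IsNormalScheme S)
    (s : S ⟶ Spec (CommRingCat.of k)) {E : Over S} {b : AlgGrp.Action (Red.bc s G₀) E}
    (hb : NonAbH1.IsTorsorFor Scheme.fppfPrecoverage b) :
    IsSeparated E.hom ∧ ∀ t : Spec S.functionField ⟶ E.left,
      t ≫ E.hom = S.fromSpecStalk (genericPoint S) →
      ∃ σ : S ⟶ E.left, σ ≫ E.hom = 𝟙 S ∧ S.fromSpecStalk (genericPoint S) ≫ σ = t := by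
  have hb' := Groth.Agent.Lib.TorsorSch.Descent.isTorsorFor_mono
    Scheme.fppfPrecoverage_le_fpqcPrecoverage hb
  have : IsSeparated G₀.hom := Groth.Agent.Lib.GrpSch.isSeparated_of_field G₀
  have h1 : IsSeparated (Red.bc s G₀).hom :=
    MorphismProperty.pullback_snd (P := @IsSeparated) _ _ inferInstance
  have h2 : Etale (Red.bc s G₀).hom :=
    MorphismProperty.pullback_snd (P := @Etale) _ _ inferInstance
  have : IsSeparated E.hom := Groth.Agent.Lib.TorsorSch.Basic.of_hom (P := @IsSeparated) hb' h1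
  have : Etale E.hom := Groth.Agent.Lib.TorsorSch.Basic.of_hom (P := @Etale) hb' h2
  refine ⟨inferInstance, Groth.Agent.Lib.TorsorSch.RatSectionEtale.exists_section hS E.hom
    (specializingMap_hom hb fun T ↦ ?_)⟩
  have H' : IsPullback _ (snd (Red.bc s G₀) T).left G₀.hom (T.hom ≫ s) :=
    IsPullback.flip ((Groth.Agent.Lib.GrpSch.isPullback_left (Red.bc s G₀) T).flip.paste_vert
      (IsPullback.of_hasPullback G₀.hom s).flip)
  rw [← H'.isoPullback_hom_snd]
  intro w c hc
  obtain ⟨z, hz, rfl⟩ := specializingMap_snd G₀.hom (T.hom ≫ s) (a := H'.isoPullback.hom w)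
    (b := c) hc
  refine ⟨H'.isoPullback.inv z, ?_, ?_⟩
  · have := hz.map H'.isoPullback.inv.continuous
    rwa [← Scheme.Hom.comp_apply, Iso.hom_inv_id] at this
  · rw [← Scheme.Hom.comp_apply, Iso.inv_hom_id_assoc]

end Groth.Agent.Lib.TorsorSch.NormalBase
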