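import Groth.Prelude.Def_NonAbH2
import Mathlib
import Groth.Agent.Lib.GrpSch.Basic
import Groth.Agent.Lib.Tori.AffineDescent
import Groth.Agent.Lib.Flat55.FlatDescend

/-!
# fpqc-locally trivial schemes: affine covers and descent along them
-/

universe u

open CategoryTheory MonoidalCategory CartesianMonoidalCategory AlgebraicGeometry
open CategoryTheory.Limits TopologicalSpace

namespace Groth.Agent.Lib.TorsorSch.Descent

variable {S : Scheme.{u}}

theorem isLocallyTrivialFor_mono {K K' : Precoverage Scheme.{u}} (hKK' : K ≤ K') {X : Over S}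
    (h : NonAbH1.IsLocallyTrivialFor K X) : NonAbH1.IsLocallyTrivialFor K' X :=
  let ⟨R, hR, hs⟩ := h
  ⟨R, hKK' S hR, hs⟩

theorem isTorsorFor_mono {K K' : Precoverage Scheme.{u}} (hKK' : K ≤ K') {G X : Over S} [GrpObj G]
    {a : AlgGrp.Action G X}
    (h : NonAbH1.IsTorsorFor K a) : NonAbH1.IsTorsorFor K' a :=
  ⟨h.1, isLocallyTrivialFor_mono hKK' h.2⟩

theorem etalePrecoverage_le_fppfPrecoverage :
    Scheme.etalePrecoverage.{u} ≤ Scheme.fppfPrecoverage.{u} :=
  Scheme.precoverage_mono fun _ _ f (_ : Etale f) ↦ ⟨inferInstance, inferInstance⟩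

theorem etalePrecoverage_le_fpqcPrecoverage :
    Scheme.etalePrecoverage.{u} ≤ Scheme.fpqcPrecoverage.{u} :=
  etalePrecoverage_le_fppfPrecoverage.trans Scheme.fppfPrecoverage_le_fpqcPrecoverage

/-- An fpqc covering is refined, over each affine open, by a faithfully flat quasi-compact
morphism from an affine scheme which is covered by opens mapping to members of the covering. -/
theorem exists_affine_cover {R : Presieve S} (hR : R ∈ Scheme.fpqcPrecoverage S)
    (U : S.Opens) (hU : IsAffineOpen U) :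
    ∃ (T : Scheme.{u}) (_ : IsAffine T) (q : T ⟶ (U : Scheme.{u})),
      Surjective q ∧ Flat q ∧ QuasiCompact q ∧ ∃ 𝒱 : Scheme.OpenCover.{0} T,
        ∀ i, ∃ (S' : Scheme.{u}) (g : S' ⟶ S), R g ∧
          ∃ b : 𝒱.X i ⟶ S', b ≫ g = 𝒱.f i ≫ q ≫ U.ι := by
  obtain ⟨𝒰, _, rfl⟩ := Scheme.mem_propQCPrecoverage_iff_exists_quasiCompactCover.mp hR
  obtain ⟨n, f, V, hV, hVU⟩ :=
    QuasiCompactCover.exists_isAffineOpen_of_isCompact 𝒰.toPreZeroHypercover hU.isCompact
  let W : Fin n → Scheme.{u} := fun i ↦ (V i : Scheme.{u})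
  have : ∀ i, IsAffine (W i) := fun i ↦ hV i
  let p : ∐ W ⟶ S := Sigma.desc fun i ↦ (V i).ι ≫ 𝒰.f (f i)
  have : IsAffine (∐ W) := inferInstance
  have hp : Flat p := by
    have : ∀ i, Flat (𝒰.f (f i)) := fun i ↦ 𝒰.map_prop _
    infer_instance
  have hpr : Set.range p = U := by
    rw [← hVU]
    ext x
    simp only [Set.mem_range, Set.mem_iUnion, Set.mem_image]
    constructor
    · rintro ⟨z, rfl⟩
      obtain ⟨i, z, rfl⟩ := (sigmaOpenCover W).exists_eq z
      refine ⟨i, (V i).ι z, z.2, ?_⟩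
      exact (congr($(Sigma.ι_desc (fun i ↦ (V i).ι ≫ 𝒰.f (f i)) i) z)).symm
    · rintro ⟨i, z, hz, rfl⟩
      exact ⟨Sigma.ι W i ⟨z, hz⟩, congr($(Sigma.ι_desc (fun i ↦ (V i).ι ≫ 𝒰.f (f i)) i) ⟨z, hz⟩)⟩
  let q : ∐ W ⟶ U := IsOpenImmersion.lift U.ι p (by rw [hpr]; simp)
  have hq : q ≫ U.ι = p := IsOpenImmersion.lift_fac _ _ _
  have : IsAffine (U : Scheme.{u}) := hU
  refine ⟨∐ W, inferInstance, q, ⟨fun x ↦ ?_⟩, ?_, ?_, sigmaOpenCover W, fun i ↦ ?_⟩
  · obtain ⟨z, hz⟩ : U.ι x ∈ Set.range p := by rw [hpr]; exact x.2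
    refine ⟨z, U.ι.isOpenEmbedding.injective ?_⟩
    rw [← Scheme.Hom.comp_apply, hq, hz]
  · have : Flat (q ≫ U.ι) := hq ▸ hp
    exact MorphismProperty.of_isPullback (P := @Flat)
      (IsPullback.of_horiz_isIso_mono (fst := 𝟙 _) (snd := q) (f := q ≫ U.ι) (g := U.ι) ⟨by simp⟩)
      this
  · exact (quasiCompact_iff_compactSpace q).mpr inferInstance
  · refine ⟨_, _, Presieve.ofArrows.mk (f i), (V i).ι, ?_⟩
    rw [hq]
    exact (Sigma.ι_desc (fun i ↦ (V i).ι ≫ 𝒰.f (f i)) i).symm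

open Groth.Agent.Lib.GrpSch in
theorem isPullback_whisker {X X' : Over S} (f : X ⟶ X') {T T' : Over S} (b : T ⟶ T') :
    IsPullback (f ▷ T).left (X ◁ b).left (X' ◁ b).left (f ▷ T').left := by
  refine IsPullback.of_bot ?_ ?_ (isPullback_whiskerRight f T')
  · rw [← Over.comp_left, ← Over.comp_left, whiskerLeft_fst, whiskerLeft_fst]
    exact isPullback_whiskerRight f T
  · rw [← Over.comp_left, ← Over.comp_left, whisker_exchange]

open Groth.Agent.Lib.GrpSch in
/-- **fpqc descent along a covering family**: to prove `P f.left` for an S-morphism `f` it is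
enough to do so after base change to the members of a covering. -/
theorem of_presieve {P : MorphismProperty Scheme.{u}} [IsZariskiLocalAtTarget P]
    [P.IsStableUnderBaseChange] [P.DescendsAlong (@Surjective ⊓ @Flat ⊓ @QuasiCompact)]
    {R : Presieve S} (hR : R ∈ Scheme.fpqcPrecoverage S) {X X' : Over S} (f : X ⟶ X')
    (h : ∀ ⦃S' : Scheme.{u}⦄ (g : S' ⟶ S), R g → P (f ▷ Over.mk g).left) : P f.left := by
  rw [IsZariskiLocalAtTarget.iff_of_iSup_eq_top (P := P)
    (fun U : S.affineOpens ↦ X'.hom ⁻¹ᵁ U.1)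
    (by rw [← Scheme.Hom.preimage_iSup, iSup_affineOpens_eq_top, Scheme.Hom.preimage_top])]
  rintro ⟨U, hU⟩
  obtain ⟨T, _, q, _, _, _, 𝒱, h𝒱⟩ := exists_affine_cover hR U hU
  have hT : P (f ▷ Over.mk (q ≫ U.ι)).left := by
    let j (i) : Over.mk (𝒱.f i ≫ q ≫ U.ι) ⟶ Over.mk (q ≫ U.ι) := Over.homMk (𝒱.f i) rfl
    have hj (i) : IsOpenImmersion (X' ◁ j i).left :=
      whiskerLeft_left_of (P := @IsOpenImmersion) X' (j i) (inferInstanceAs (IsOpenImmersion (𝒱.f i)))
    let 𝒲 : Scheme.OpenCover.{0} (X' ⊗ Over.mk (q ≫ U.ι)).left :=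
      Scheme.Cover.mkOfCovers 𝒱.I₀ (fun i ↦ (X' ⊗ Over.mk (𝒱.f i ≫ q ≫ U.ι)).left)
        (fun i ↦ (X' ◁ j i).left) (fun x ↦ by
          obtain ⟨i, y, hy⟩ := 𝒱.exists_eq ((snd X' (Over.mk (q ≫ U.ι))).left x)
          obtain ⟨z, hz, -⟩ := Scheme.exists_preimage_of_isPullback
            (isPullback_whiskerLeft X' (j i)) x y hy.symm
          exact ⟨i, z, hz⟩) hj
    rw [IsZariskiLocalAtTarget.iff_of_openCover (P := P) 𝒲]
    intro i
    obtain ⟨S', g, hg, b, hb⟩ := h𝒱 i
    have hi : P (f ▷ Over.mk (𝒱.f i ≫ q ≫ U.ι)).left :=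
      P.of_isPullback (isPullback_whisker f (Over.homMk (U := Over.mk (𝒱.f i ≫ q ≫ U.ι))
        (V := Over.mk g) b hb)).flip (h g hg)
    rw [← (isPullback_whisker f (j i)).flip.isoPullback_hom_snd,
      P.cancel_left_of_respectsIso] at hi
    exact hi
  let qq : Over.mk (q ≫ U.ι) ⟶ Over.mk U.ι := Over.homMk q rfl
  have hU' : P (f ▷ Over.mk U.ι).left :=
    P.of_isPullback_of_descendsAlong (Q := @Surjective ⊓ @Flat ⊓ @QuasiCompact)
      (isPullback_whisker f qq)
      ⟨⟨whiskerLeft_left_of X' qq ‹_›, whiskerLeft_left_of X' qq ‹_›⟩,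
        whiskerLeft_left_of X' qq ‹_›⟩ hT
  let V := X'.hom ⁻¹ᵁ U
  let e : (V : Scheme.{u}) ⟶ (X' ⊗ Over.mk U.ι).left :=
    (isPullback_left X' (Over.mk U.ι)).lift V.ι (X'.hom ∣_ U) (morphismRestrict_ι _ _).symm
  have he : e ≫ (fst X' (Over.mk U.ι)).left = V.ι := IsPullback.lift_fst _ _ _ _
  let e' := (isPullback_whiskerRight f (Over.mk U.ι)).lift ((f.left ∣_ V) ≫ e) (f.left ⁻¹ᵁ V).ι
    (by rw [Category.assoc, he, morphismRestrict_ι])
  suffices IsPullback e' (f.left ∣_ V) (f ▷ Over.mk U.ι).left e from P.of_isPullback this hU'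
  refine IsPullback.flip ?_
  refine IsPullback.of_bot ?_ ?_ (isPullback_whiskerRight f (Over.mk U.ι))
  · rw [he, IsPullback.lift_snd]
    exact isPullback_morphismRestrict f.left V
  · rw [IsPullback.lift_fst]

/-- **fpqc descent along a locally trivial scheme**: to prove `P f.left` for an S-morphism `f` it is
enough to do so after base change to S-schemes mapping to a fixed fpqc-locally trivial `Y`. -/
theorem of_forall_whiskerRight {P : MorphismProperty Scheme.{u}} [IsZariskiLocalAtTarget P]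
    [P.IsStableUnderBaseChange] [P.DescendsAlong (@Surjective ⊓ @Flat ⊓ @QuasiCompact)]
    {X X' Y : Over S} (hY : NonAbH1.IsLocallyTrivialFor Scheme.fpqcPrecoverage Y) (f : X ⟶ X')
    (h : ∀ {T : Over S} (_ : T ⟶ Y), P (f ▷ T).left) : P f.left := by
  obtain ⟨R, hR, hs⟩ := hY
  refine of_presieve hR f fun S' g hg ↦ ?_
  obtain ⟨s, hs⟩ := hs g hg
  exact h (Over.homMk (U := Over.mk g) s hs)

instance descendsAlong_isAffineHom :
    MorphismProperty.DescendsAlong (@IsAffineHom.{u}) (@Surjective ⊓ @Flat ⊓ @QuasiCompact) :=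
  Groth.Agent.Lib.Tori.AffineDescent.descendsAlong_isAffineHom

/-- Quasi-compactness satisfies fpqc descent. -/
instance descendsAlong_quasiCompact :
    MorphismProperty.DescendsAlong @QuasiCompact.{u} (@Surjective ⊓ @Flat ⊓ @QuasiCompact) := by
  have : MorphismProperty.RespectsIso @QuasiCompact.{u} :=
    MorphismProperty.IsStableUnderBaseChange.respectsIso
  refine MorphismProperty.DescendsAlong.mk' fun {X Y Z} f g _ hf hfst ↦ ⟨fun U hU hUc ↦ ?_⟩
  have := hf.1.1
  have := hf.2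
  have e : g ⁻¹' U = pullback.snd f g '' (pullback.fst f g ⁻¹' (f ⁻¹' U)) := by
    ext y
    constructor
    · intro hy
      obtain ⟨x, hx⟩ := f.surjective (g y)
      obtain ⟨z, hz1, hz2⟩ := Scheme.Pullback.exists_preimage_pullback x y hx
      exact ⟨z, by simpa [hz1, hx] using hy, hz2⟩
    · rintro ⟨z, hz, rfl⟩
      have : f (pullback.fst f g z) = g (pullback.snd f g z) := by
        rw [← Scheme.Hom.comp_apply, ← Scheme.Hom.comp_apply, pullback.condition]
      simpa [this] using hz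
  rw [e]
  exact ((hfst.isCompact_preimage _ (hU.preimage f.continuous)
    (QuasiCompact.isCompact_preimage _ hU hUc))).image (pullback.snd f g).continuous

/-- Flatness satisfies fpqc descent. -/
instance descendsAlong_flat :
    MorphismProperty.DescendsAlong @Flat.{u} (@Surjective ⊓ @Flat ⊓ @QuasiCompact) := by
  refine MorphismProperty.DescendsAlong.mk' fun {X Y Z} f g _ hf hfst ↦ ?_
  have := hf.1.1
  have := hf.1.2
  have : Flat (pullback.snd f g ≫ g) := by
    rw [← pullback.condition]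
    infer_instance
  exact Groth.Agent.Lib.Flat55.FlatDescend.flat_of_comp (pullback.snd f g) g

theorem codescendsAlong_finite :
    RingHom.CodescendsAlong (fun f ↦ f.Finite) RingHom.FaithfullyFlat := by
  refine RingHom.CodescendsAlong.mk _ RingHom.finite_respectsIso ?_
  intro R S T _ _ _ _ _ h h'
  rw [RingHom.finite_algebraMap] at h' ⊢
  rw [RingHom.faithfullyFlat_algebraMap_iff] at h
  exact Module.Finite.of_finite_tensorProduct_of_faithfullyFlat S

set_option backward.isDefEq.respectTransparency false in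
/-- Finiteness satisfies fpqc descent. -/
instance descendsAlong_isFinite :
    MorphismProperty.DescendsAlong @IsFinite.{u} (@Surjective ⊓ @Flat ⊓ @QuasiCompact) := by
  apply IsZariskiLocalAtTarget.descendsAlong_inf_quasiCompact
  · rw [inf_comm]
    exact inf_le_inf le_rfl (IsLocalIso.le_of_isZariskiLocalAtSource _)
  intro R S Y φ g h hf
  have : IsAffineHom g := MorphismProperty.of_pullback_fst_of_descendsAlong (P := @IsAffineHom)
    (Q := @Surjective ⊓ @Flat ⊓ @QuasiCompact) (f := Spec.map φ) ⟨h, inferInstance⟩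
    (have : IsFinite _ := hf; inferInstance)
  have : IsAffine Y := isAffine_of_isAffineHom g
  wlog hY : ∃ S, Y = Spec S generalizing Y
  · have hri : MorphismProperty.RespectsIso @IsFinite.{u} :=
      MorphismProperty.IsStableUnderBaseChange.respectsIso
    rw [← MorphismProperty.cancel_left_of_respectsIso @IsFinite Y.isoSpec.inv]
    have heq : pullback.fst (Spec.map φ) (Y.isoSpec.inv ≫ g) =
        pullback.map _ _ _ _ (𝟙 _) (Y.isoSpec.inv) (𝟙 _) (by simp) (by simp) ≫
          pullback.fst (Spec.map φ) g := (pullback.lift_fst _ _ _).symm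
    refine this (Y.isoSpec.inv ≫ g) ?_ inferInstance inferInstance ⟨_, rfl⟩
    rwa [heq, MorphismProperty.cancel_left_of_respectsIso @IsFinite]
  obtain ⟨Y, rfl⟩ := hY
  refine of_pullback_fst_Spec_of_codescendsAlong @IsFinite (@Surjective ⊓ @Flat)
    codescendsAlong_finite ?_ (fun {_ _ _} ↦ IsFinite.SpecMap_iff _) h hf
  intro R S f ⟨hf₁, hf₂⟩
  rw [RingHom.FaithfullyFlat.iff_flat_and_comap_surjective]
  refine ⟨?_, (Spec.map f).surjective⟩
  rwa [HasRingHomProperty.Spec_iff (P := @Flat)] at hf₂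

end Groth.Agent.Lib.TorsorSch.Descent
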