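import Groth.Agent.Lib.TorsorSch.Basic
import Groth.Agent.Lib.TorsorSch.RatSection
import Groth.Agent.Lib.SchDense.Basic
import Groth.Prelude.Def_ActBC

/-!
# Extending equivariant morphisms of torsors from the generic point
-/

universe u

open CategoryTheory MonoidalCategory CartesianMonoidalCategory MonObj AlgebraicGeometry
open CategoryTheory.Limits
open Groth.Agent.Lib.TorsorSch.Basic

namespace Groth.Agent.Lib.TorsorSch.Ext

variable {S : Scheme.{u}} {G X X' : Over S} [GrpObj G]

/-- `h : X ⊗ T ⟶ X'` is equivariant, as a morphism over `T`. -/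
def EquivariantOver (a : AlgGrp.Action G X) (a' : AlgGrp.Action G X') {T : Over S}
    (h : X ⊗ T ⟶ X') : Prop :=
  (a.act ▷ T) ≫ h = (α_ G X T).hom ≫ (G ◁ h) ≫ a'.act

variable {a : AlgGrp.Action G X} {a' : AlgGrp.Action G X'}

theorem EquivariantOver.comp {T T' : Over S} {h : X ⊗ T ⟶ X'} (hh : EquivariantOver a a' h)
    (u : T' ⟶ T) : EquivariantOver a a' ((X ◁ u) ≫ h) := by
  unfold EquivariantOver at hh ⊢
  rw [← whisker_exchange_assoc, hh, whiskerLeft_comp, Category.assoc,
    ← associator_naturality_right_assoc]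

variable (a a') in
/-- The morphism of torsors over `T` sending the point `s` to the point `s'`. -/
noncomputable def trans {T : Over S} (s : T ⟶ X) [IsIso (triv a s)] (s' : T ⟶ X') : X ⊗ T ⟶ X' :=
  inv (triv a s) ≫ (G ◁ s') ≫ a'.act

theorem triv_comp_eq {T : Over S} (s : T ⟶ X) {h : X ⊗ T ⟶ X'} (hh : EquivariantOver a a' h) :
    triv a s ≫ h = (G ◁ (lift s (𝟙 T) ≫ h)) ≫ a'.act := by
  have e : triv a s = (G ◁ lift s (𝟙 T)) ≫ (α_ G X T).inv ≫ (a.act ▷ T) := by
    have e' : (G ◁ lift s (𝟙 T)) ≫ (α_ G X T).inv ≫ fst (G ⊗ X) T = G ◁ s := by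
      apply CartesianMonoidalCategory.hom_ext <;> simp
    apply CartesianMonoidalCategory.hom_ext
    · simp [reassoc_of% e']
    · simp
  rw [e, Category.assoc, Category.assoc, hh, Iso.inv_hom_id_assoc, whiskerLeft_comp,
    Category.assoc]

/-- An equivariant morphism is the translation determined by the image of a point. -/
theorem trans_comp_eq {T T₀ T₁ : Over S} (u : T ⟶ T₀) (v : T ⟶ T₁) (σ : T₁ ⟶ X)
    [IsIso (triv a σ)] [IsIso (triv a (v ≫ σ))] (σ' : T₁ ⟶ X') {h : X ⊗ T₀ ⟶ X'}
    (hh : EquivariantOver a a' h) (hσ : v ≫ σ' = lift (v ≫ σ) u ≫ h) :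
    (X ◁ v) ≫ trans a a' σ σ' = (X ◁ u) ≫ h := by
  rw [← cancel_epi (triv a (v ≫ σ))]
  have e : triv a (v ≫ σ) ≫ (X ◁ v) = (G ◁ v) ≫ triv a σ := by
    apply CartesianMonoidalCategory.hom_ext
    · simp
    · simp
  rw [trans, reassoc_of% e, IsIso.hom_inv_id_assoc, ← whiskerLeft_comp_assoc, hσ,
    triv_comp_eq (v ≫ σ) (hh.comp u)]
  congr 2
  simp

/-- The generic point of the base as an object over it. -/
noncomputable abbrev genOver (S : Scheme.{u}) [IsIntegral S] : Over S :=
  Over.mk (S.fromSpecStalk (genericPoint S))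

instance (S : Scheme.{u}) [IsIntegral S] : QuasiCompact (S.fromSpecStalk (genericPoint S)) := by
  refine ⟨fun U _ _ ↦ ?_⟩
  have : Subsingleton (Spec (S.presheaf.stalk (genericPoint S))) :=
    inferInstanceAs (Subsingleton (PrimeSpectrum S.functionField))
  exact (Set.subsingleton_of_subsingleton (s := S.fromSpecStalk (genericPoint S) ⁻¹' U)).isCompact

instance (S : Scheme.{u}) [IsIntegral S] :
    IsSchemeTheoreticallyDominant (S.fromSpecStalk (genericPoint S)) := by
  have : IsDominant (S.fromSpecStalk (genericPoint S)) := by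
    refine ⟨?_⟩
    rw [DenseRange, Scheme.range_fromSpecStalk, dense_iff_closure_eq, Set.eq_univ_iff_forall]
    intro x
    exact closure_mono (Set.singleton_subset_iff.mpr (specializes_refl (genericPoint S)))
      ((genericPoint_closure (α := S)).symm ▸ Set.mem_univ x)
  exact .of_isDominant _

/-- Morphisms from a scheme flat over an integral base to a separated one are determined by their
restrictions to the generic fibre. -/
theorem hom_ext_generic [IsIntegral S] {W Y : Over S} [Flat W.hom] [IsSeparated Y.hom]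
    {f g : W ⟶ Y} (h : fst W (genOver S) ≫ f = fst W (genOver S) ≫ g) : f = g := by
  have : IsSchemeTheoreticallyDominant (genOver S).hom :=
    inferInstanceAs (IsSchemeTheoreticallyDominant (S.fromSpecStalk (genericPoint S)))
  have : QuasiCompact (genOver S).hom :=
    inferInstanceAs (QuasiCompact (S.fromSpecStalk (genericPoint S)))
  have : IsSchemeTheoreticallyDominant (fst W (genOver S)).left :=
    IsSchemeTheoreticallyDominant.of_isPullback
      (Groth.Agent.Lib.GrpSch.isPullback_left W (genOver S)).flip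
  ext1
  exact Groth.Agent.Lib.SchDense.Basic.ext_of_std Y.hom (by simp) (fst W (genOver S)).left
    congr(($h).left)

/-- A morphism extending an equivariant generic morphism of torsors is an equivariant
isomorphism. -/
theorem nonempty_equivIso [IsIntegral S] [Flat G.hom]
    (ha : NonAbH1.IsTorsorFor Scheme.fpqcPrecoverage a) (ha' : NonAbH1.IsPseudoTorsorSch a')
    [IsSeparated X'.hom] {h : X ⊗ genOver S ⟶ X'} (hh : EquivariantOver a a' h) (f : X ⟶ X')
    (hf : fst X (genOver S) ≫ f = h) : Nonempty (NonAbH1.EquivIso a a') := by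
  have : Flat X.hom := Groth.Agent.Lib.TorsorSch.Basic.of_hom (P := @Flat) ha inferInstance
  have : Flat (G ⊗ X).hom := by
    rw [← Over.w (snd G X)]
    have : Flat (snd G X).left :=
      Groth.Agent.Lib.GrpSch.snd_left_of (P := @Flat) X inferInstance
    infer_instance
  have heq : AlgGrp.Action.IsEquivariant a a' f := by
    refine hom_ext_generic ?_
    rw [← whiskerRight_fst_assoc, hf, hh, ← hf, whiskerLeft_comp, Category.assoc,
      ← associator_hom_whiskerLeft_fst_assoc_aux]
  have := Groth.Agent.Lib.TorsorSch.Basic.isIso_of_isEquivariant ha ha' f heq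
  exact ⟨⟨asIso f, heq⟩⟩
where
  associator_hom_whiskerLeft_fst_assoc_aux {A B C Z : Over S} (k : A ⊗ B ⟶ Z) :
      fst (A ⊗ B) C ≫ k = (α_ A B C).hom ≫ (A ◁ fst B C) ≫ k := by
    rw [← Category.assoc (α_ A B C).hom]
    congr 1
    apply CartesianMonoidalCategory.hom_ext <;> simp

set_option backward.isDefEq.respectTransparency false in
/-- An equivariant isomorphism of base changes gives an equivariant morphism over the base
change. -/
theorem exists_equivariantOver {S' : Scheme.{u}} (g : S' ⟶ S)
    (e : NonAbH1.EquivIso (a.bc g) (a'.bc g)) :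
    ∃ h : X ⊗ Over.mk g ⟶ X', EquivariantOver a a' h := by
  let F := Over.pullback g
  let h : X ⊗ Over.mk g ⟶ X' :=
    Over.homMk (e.iso.hom.left ≫ pullback.fst X'.hom g) (by
      rw [Category.assoc, pullback.condition, ← Category.assoc]
      exact (congrArg (· ≫ g) (Over.w e.iso.hom)).trans pullback.condition.symm)
  refine ⟨h, ?_⟩
  let δ : F.obj (G ⊗ X) ⟶ F.obj G ⊗ F.obj X := lift (F.map (fst G X)) (F.map (snd G X))
  have hδ : δ ≫ Functor.LaxMonoidal.μ F G X = 𝟙 _ := by
    simp [δ, Functor.Monoidal.lift_μ, lift_fst_snd]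
  set P := δ ≫ (F.obj G ◁ e.iso.hom) ≫ Functor.LaxMonoidal.μ F G X' with hP
  have hP1 : P ≫ F.map (fst G X') = F.map (fst G X) := by
    simp [hP, δ]
    exact lift_fst _ _
  have hP2 : P ≫ F.map (snd G X') = F.map (snd G X) ≫ e.iso.hom := by simp [hP, δ]
  have hact : F.map a.act ≫ e.iso.hom = P ≫ F.map a'.act := by
    have := congr(δ ≫ $(e.comm))
    rw [AlgGrp.Action.bc_act, AlgGrp.Action.bc_act, Category.assoc, reassoc_of% hδ] at this
    rw [this, hP]
    simp [F, Red.bc]
  apply Over.OverMorphism.ext
  have hk : ∀ {A B : Over S} (k : A ⟶ B), (k ▷ Over.mk g).left = (F.map k).left := fun {A B} k ↦ by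
    apply (Groth.Agent.Lib.GrpSch.isPullback_left B (Over.mk g)).hom_ext
    · rw [← Over.comp_left, whiskerRight_fst]
      exact (pullback.lift_fst _ _ _).symm
    · rw [← Over.comp_left, whiskerRight_snd]
      exact (pullback.lift_snd _ _ _).symm
  have h2 : (F.map a.act).left ≫ e.iso.hom.left ≫ pullback.fst X'.hom g =
      P.left ≫ pullback.fst (G ⊗ X').hom g ≫ a'.act.left := by
    rw [← Category.assoc, ← Over.comp_left, hact, Over.comp_left, Category.assoc]
    exact congrArg _ (pullback.lift_fst _ _ _)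
  rw [Over.comp_left, hk, Over.comp_left, Over.comp_left, ← Category.assoc _ _ a'.act.left]
  refine h2.trans ?_
  rw [← Category.assoc]
  congr 1
  apply (Groth.Agent.Lib.GrpSch.isPullback_left G X').hom_ext
  · have e1 := congr(($hP1).left ≫ pullback.fst G.hom g)
    simp only [Over.comp_left, Category.assoc, F, Over.pullback_map_left, pullback.lift_fst] at e1
    rw [Category.assoc, Category.assoc, e1, ← Over.comp_left, whiskerLeft_fst,
      ← Over.comp_left, associator_hom_fst]
    rfl
  · have e2 := congr(($hP2).left ≫ pullback.fst X'.hom g)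
    simp only [Over.comp_left, Category.assoc, F, Over.pullback_map_left, pullback.lift_fst] at e2
    rw [Category.assoc, Category.assoc, e2, ← Over.comp_left (f := G ◁ h), whiskerLeft_snd,
      ← Over.comp_left (f := (α_ G X (Over.mk g)).hom),
      ← Category.assoc (α_ G X (Over.mk g)).hom, associator_hom_snd_aux, Over.comp_left, hk]
    rfl
where
  associator_hom_snd_aux {A B C : Over S} :
      (α_ A B C).hom ≫ snd A (B ⊗ C) = snd A B ▷ C := by
    apply CartesianMonoidalCategory.hom_ext <;> simp

end Groth.Agent.Lib.TorsorSch.Ext
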