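import Groth.Agent.Lib.TorsorSch.Ext
import Groth.Prelude.Def_Neron
import Groth.Agent.Lib.TorsorSch.RatSectionEtale

/-!
# Torsors under proper flat groups over Dedekind bases are determined by their generic fibres
-/

universe u

open CategoryTheory MonoidalCategory CartesianMonoidalCategory MonObj AlgebraicGeometry
open CategoryTheory.Limits TopologicalSpace

namespace Groth.Agent.Lib.TorsorSch.ExtProper

open Groth.Agent.Lib.TorsorSch.Ext Groth.Agent.Lib.TorsorSch.Basic

instance descendsAlong_isProper :
    MorphismProperty.DescendsAlong @IsProper.{u} (@Surjective ⊓ @Flat ⊓ @QuasiCompact) := by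
  have : MorphismProperty.DescendsAlong @IsSeparated.{u} (@Surjective ⊓ @Flat ⊓ @QuasiCompact) := by
    have : (MorphismProperty.monomorphisms Scheme.{u}).DescendsAlong
        (@Surjective ⊓ @Flat ⊓ @QuasiCompact) := by
      rw [← MorphismProperty.diagonal_isomorphisms]; infer_instance
    have : MorphismProperty.DescendsAlong @IsClosedImmersion.{u}
        (@Surjective ⊓ @Flat ⊓ @QuasiCompact) := by
      rw [IsClosedImmersion.eq_isFinite_inf_mono]; infer_instance
    rw [IsSeparated.isSeparated_eq_diagonal_isClosedImmersion]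
    infer_instance
  rw [isProper_eq]
  infer_instance

instance isSchemeTheoreticallyDominant_toImage {X Y : Scheme.{u}} (f : X ⟶ Y) [QuasiCompact f] :
    IsSchemeTheoreticallyDominant f.toImage := by
  refine ⟨Scheme.IdealSheafData.ext_of_iSup_eq_top
    (fun U : Y.affineOpens ↦ ⟨f.imageι ⁻¹ᵁ U.1, U.2.preimage f.imageι⟩) ?_ fun U ↦ ?_⟩
  · rw [← Scheme.Hom.preimage_iSup, iSup_affineOpens_eq_top, Scheme.Hom.preimage_top]
  · simp only [Scheme.Hom.ker_apply, Scheme.IdealSheafData.ideal_bot, Pi.bot_apply]
    exact (RingHom.injective_iff_ker_eq_bot _).mp (f.toImage_app_injective U)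

instance flat_fromSpecStalk {X : Scheme.{u}} (x : X) : Flat (X.fromSpecStalk x) := by
  obtain ⟨U, hU, hx, -⟩ := Opens.isBasis_iff_nbhd.mp X.isBasis_affineOpens (Opens.mem_top x)
  rw [← hU.fromSpecStalk_eq_fromSpecStalk hx, IsAffineOpen.fromSpecStalk]
  have : Flat (Spec.map (X.presheaf.germ U x hx)) := by
    rw [HasRingHomProperty.Spec_iff (P := @Flat)]
    let := (X.presheaf.germ U x hx).hom.toAlgebra
    have := hU.isLocalization_stalk ⟨x, hx⟩
    exact IsLocalization.flat (X.presheaf.stalk x) (hU.primeIdealOf ⟨x, hx⟩).asIdeal.primeCompl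
  infer_instance

set_option backward.isDefEq.respectTransparency false in
/-- A scheme over a Dedekind domain receiving a scheme-theoretically dominant point over the
generic point is flat. -/
theorem flat_of_std {R : Type u} [CommRing R] [IsDedekindDomain R] {T : Scheme.{u}}
    (p : T ⟶ Spec (CommRingCat.of R)) {L : Type u} [Field L] (d : Spec (CommRingCat.of L) ⟶ T)
    [IsSchemeTheoreticallyDominant d] [QuasiCompact d] (φ : R →+* L) (hφ : Function.Injective φ)
    (hd : d ≫ p = Spec.map (CommRingCat.ofHom φ)) : Flat p := by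
  rw [HasRingHomProperty.iff_of_source_openCover (P := @Flat) T.affineCover]
  intro i
  let j := T.affineCover.f i
  have hinj : Function.Injective ((d.app j.opensRange).hom) := d.app_injective _
  -- the algebra map into sections over the open
  let c : CommRingCat.of R ⟶ Γ(Spec (CommRingCat.of R), ⊤) := (Scheme.ΓSpecIso _).inv
  let e : CommRingCat.of R ⟶ Γ(T, j.opensRange) := c ≫ p.appLE ⊤ j.opensRange le_top
  have hflat : e.hom.Flat := by
    algebraize [e.hom]
    change Module.Flat R Γ(T, j.opensRange)
    rw [IsDedekindDomain.flat_iff_torsion_eq_bot, eq_bot_iff]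
    rintro x ⟨⟨r, hr⟩, hrx⟩
    rw [Submodule.mem_bot]
    apply hinj
    rw [map_zero]
    have hu : IsUnit ((d.app j.opensRange).hom (e.hom r)) := by
      have he : e ≫ d.app j.opensRange =
          CommRingCat.ofHom φ ≫ (Scheme.ΓSpecIso (CommRingCat.of L)).inv ≫
            (Spec (CommRingCat.of L)).presheaf.map (homOfLE le_top).op := by
        have h1 : p.appLE ⊤ j.opensRange le_top ≫ d.app j.opensRange =
            (Spec.map (CommRingCat.ofHom φ)).appLE ⊤ (d ⁻¹ᵁ j.opensRange) le_top := by
          rw [Scheme.Hom.app_eq_appLE, Scheme.Hom.appLE_comp_appLE]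
          simp only [hd]
        rw [Category.assoc, h1, Scheme.Hom.appLE, ← Category.assoc c,
          ← Category.assoc (CommRingCat.ofHom φ), Scheme.ΓSpecIso_inv_naturality]
      rw [← CommRingCat.comp_apply, he]
      exact (isUnit_iff_ne_zero.mpr ((map_ne_zero_iff φ hφ).mpr (nonZeroDivisors.ne_zero hr))).map
        ((Scheme.ΓSpecIso (CommRingCat.of L)).inv ≫
          (Spec (CommRingCat.of L)).presheaf.map (homOfLE le_top).op).hom
    have hz : (d.app j.opensRange).hom (e.hom r) * (d.app j.opensRange).hom x = 0 := by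
      rw [← map_mul]
      exact (congrArg _ hrx).trans (map_zero _)
    exact hu.mul_right_eq_zero.mp hz
  have hc : p.appLE ⊤ j.opensRange le_top = (Scheme.ΓSpecIso _).hom ≫ e := by
    simp [e, c]
  have hj : (j ≫ p).appTop = p.appLE ⊤ j.opensRange le_top ≫ j.appLE j.opensRange ⊤ (by simp) := by
    rw [Scheme.Hom.appLE_comp_appLE]
    rfl
  change ((j ≫ p).appTop).hom.Flat
  rw [hj, hc]
  refine RingHom.Flat.comp ?_ ?_
  · exact RingHom.Flat.comp (RingHom.Flat.of_bijective
      (ConcreteCategory.bijective_of_isIso (Scheme.ΓSpecIso (CommRingCat.of R)).hom)) hflat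
  · have : IsIso (j.appLE j.opensRange ⊤ (by simp)) := by
      rw [Scheme.Hom.appLE]
      have : IsIso (j.app j.opensRange) := Scheme.Hom.isIso_app j _ le_rfl
      have : IsIso ((T.affineCover.X i).presheaf.map
          (homOfLE (show ⊤ ≤ j ⁻¹ᵁ j.opensRange by simp)).op) := by
        have h' : IsIso (homOfLE (show (⊤ : (T.affineCover.X i).Opens) ≤ j ⁻¹ᵁ j.opensRange by simp)) :=
          ⟨homOfLE le_top, rfl, rfl⟩
        infer_instance
      infer_instance
    exact RingHom.Flat.of_bijective
      (ConcreteCategory.bijective_of_isIso (j.appLE j.opensRange ⊤ _))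

/-- Descent of a morphism along a faithfully flat quasi-compact `T`, when it is known to come
from the generic fibre. -/
theorem exists_desc {S : Scheme.{u}} [IsIntegral S] {X X' T : Over S} [IsSeparated X'.hom]
    (hX : Flat X.hom) (hTs : Surjective T.hom) (hTf : Flat T.hom) (hTq : QuasiCompact T.hom)
    (h : X ⊗ genOver S ⟶ X') (E : X ⊗ T ⟶ X')
    (hEh : ∀ {W : Over S} (w : W ⟶ X) (t : W ⟶ T) (g : W ⟶ genOver S),
      lift w t ≫ E = lift w g ≫ h) :
    ∃ f : X ⟶ X', fst X (genOver S) ≫ f = h := by
  let p : (X ⊗ T).left ⟶ X.left := (fst X T).left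
  have hps : Surjective p := Groth.Agent.Lib.GrpSch.fst_left_of (P := @Surjective) X hTs
  have hpf : Flat p := Groth.Agent.Lib.GrpSch.fst_left_of (P := @Flat) X hTf
  have hpq : QuasiCompact p := Groth.Agent.Lib.GrpSch.fst_left_of (P := @QuasiCompact) X hTq
  have hdesc : ∀ {Z : Scheme.{u}} (g₁ g₂ : Z ⟶ (X ⊗ T).left), g₁ ≫ p = g₂ ≫ p →
      g₁ ≫ E.left = g₂ ≫ E.left := by
    intro Z g₁ g₂ hg
    let W : Over S := Over.mk (pullback.fst p p ≫ p ≫ X.hom)
    let q₁ : W ⟶ X ⊗ T := Over.homMk (pullback.fst p p)
      (congrArg (pullback.fst p p ≫ ·) (Over.w (fst X T)).symm)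
    let q₂ : W ⟶ X ⊗ T := Over.homMk (pullback.snd p p)
      ((congrArg (pullback.snd p p ≫ ·) (Over.w (fst X T)).symm).trans
        (pullback.condition_assoc X.hom).symm)
    have hWf : Flat W.hom := MorphismProperty.comp_mem @Flat _ _
      (MorphismProperty.pullback_fst (P := @Flat) p p hpf)
      (MorphismProperty.comp_mem @Flat _ _ hpf hX)
    have hq : q₁ ≫ fst X T = q₂ ≫ fst X T := Over.OverMorphism.ext pullback.condition
    have heq : q₁ ≫ E = q₂ ≫ E := by
      refine hom_ext_generic ?_
      have key' : ∀ q : W ⟶ X ⊗ T, fst W (genOver S) ≫ q ≫ E =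
          lift (fst W (genOver S) ≫ q ≫ fst X T) (snd W (genOver S)) ≫ h := fun q ↦ by
        rw [← hEh _ (fst W (genOver S) ≫ q ≫ snd X T) _]
        conv_lhs => rw [← Category.assoc, ← lift_comp_fst_snd (fst W (genOver S) ≫ q)]
        simp
      rw [key', key', hq]
    have e : pullback.fst p p ≫ E.left = pullback.snd p p ≫ E.left := congr(($heq).left)
    rw [← pullback.lift_fst g₁ g₂ hg, Category.assoc, e, pullback.lift_snd_assoc]
  have hw : EffectiveEpi.desc p E.left hdesc ≫ X'.hom = X.hom := by
    rw [← cancel_epi p, EffectiveEpi.fac_assoc]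
    exact (Over.w E).trans (Over.w (fst X T)).symm
  let f : X ⟶ X' := Over.homMk (EffectiveEpi.desc p E.left hdesc) hw
  refine ⟨f, ?_⟩
  let q : ((X ⊗ genOver S) ⊗ T) ⟶ X ⊗ genOver S := fst (X ⊗ genOver S) T
  have h1 : Surjective q.left := Groth.Agent.Lib.GrpSch.fst_left_of (P := @Surjective) _ hTs
  have h2 : Flat q.left := Groth.Agent.Lib.GrpSch.fst_left_of (P := @Flat) _ hTf
  have h3 : QuasiCompact q.left := Groth.Agent.Lib.GrpSch.fst_left_of (P := @QuasiCompact) _ hTq
  have : Epi q.left := inferInstance
  have : Epi q := Over.epi_of_epi_left _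
  rw [← cancel_epi q]
  have hfE : fst X T ≫ f = E := Over.OverMorphism.ext (EffectiveEpi.fac p E.left hdesc)
  have e1 : q ≫ fst X (genOver S) =
      lift (q ≫ fst X (genOver S)) (snd (X ⊗ genOver S) T) ≫ fst X T :=
    (lift_fst _ _).symm
  rw [← Category.assoc, e1, Category.assoc, hfE,
    hEh _ _ (q ≫ snd X (genOver S))]
  congr 1
  rw [← comp_lift, lift_fst_snd, Category.comp_id]

/-- Torsors under a proper flat group over a Dedekind base which are isomorphic over the generic
point are isomorphic. -/
theorem nonempty_equivIso_of_flat {S : Scheme.{u}} [IsIntegral S]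
    (hflat : ∀ {T : Scheme.{u}} (p : T ⟶ S) {L : Type u} [Field L]
      (d : Spec (CommRingCat.of L) ⟶ T) [IsSchemeTheoreticallyDominant d] [QuasiCompact d],
      (d ≫ p) (IsLocalRing.closedPoint L) = genericPoint S → Flat p)
    {G X X' : Over S} [GrpObj G] [IsProper G.hom] [Flat G.hom]
    {a : AlgGrp.Action G X} {a' : AlgGrp.Action G X'}
    (ha : NonAbH1.IsTorsorFor Scheme.fpqcPrecoverage a)
    (ha' : NonAbH1.IsTorsorFor Scheme.fpqcPrecoverage a')
    {h : X ⊗ genOver S ⟶ X'} (hh : EquivariantOver a a' h) :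
    Nonempty (NonAbH1.EquivIso a a') := by
  set ξ := S.fromSpecStalk (genericPoint S) with hξ
  have hXp : IsProper X.hom := of_hom (P := @IsProper) ha inferInstance
  have hX'p : IsProper X'.hom := of_hom (P := @IsProper) ha' inferInstance
  have : Flat X.hom := of_hom (P := @Flat) ha inferInstance
  have : Surjective X.hom := of_hom (P := @Surjective) ha
    ⟨fun x ↦ ⟨(η[G] : 𝟙_ _ ⟶ G).left x, congr($(Over.w η[G]) x)⟩⟩
  -- a point over the generic point
  obtain ⟨x, hx⟩ := X.hom.surjective (genericPoint S)
  let L := X.left.residueField x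
  let xs : Spec L ⟶ X.left := X.left.fromSpecResidueField x
  obtain ⟨tL, htL⟩ := Groth.Agent.Lib.TorsorSch.RatSectionEtale.exists_lift_fromSpecStalk S
    (L := L) (xs ≫ X.hom) (by rw [Scheme.Hom.comp_apply]; exact (congrArg X.hom (X.left.fromSpecResidueField_apply x _)).trans hx)
  let T₀ : Over S := Over.mk (xs ≫ X.hom)
  let u : T₀ ⟶ genOver S := Over.homMk tL htL
  let s : T₀ ⟶ X := Over.homMk xs rfl
  let r : T₀ ⟶ X ⊗ X' := lift s (lift s u ≫ h)
  -- the closure of the pair of points
  have : Subsingleton T₀.left := inferInstanceAs (Subsingleton (PrimeSpectrum L))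
  have : QuasiCompact r.left :=
    ⟨fun _ _ _ ↦ (Set.subsingleton_of_subsingleton).isCompact⟩
  let T₁ : Over S := Over.mk (r.left.imageι ≫ (X ⊗ X').hom)
  let σ : T₁ ⟶ X := Over.homMk r.left.imageι rfl ≫ fst X X'
  let σ' : T₁ ⟶ X' := Over.homMk r.left.imageι rfl ≫ snd X X'
  let v : T₀ ⟶ T₁ := Over.homMk r.left.toImage
    (by change _ ≫ _ ≫ _ = _; rw [reassoc_of% r.left.toImage_imageι, Over.w r])
  have hv : v ≫ (Over.homMk r.left.imageι rfl : T₁ ⟶ X ⊗ X') = r :=
    Over.OverMorphism.ext r.left.toImage_imageι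
  have hvσ : v ≫ σ = s := by simp only [σ, reassoc_of% hv]; exact lift_fst _ _
  have hvσ' : v ≫ σ' = lift (v ≫ σ) u ≫ h := by
    rw [hvσ]; simp only [σ', reassoc_of% hv]; exact lift_snd _ _
  have := isIso_triv a ha.1 σ
  have := isIso_triv a ha.1 (v ≫ σ)
  have key := trans_comp_eq u v σ σ' hh hvσ'
  set E := trans a a' σ σ'
  have hvd : IsSchemeTheoreticallyDominant v.left :=
    inferInstanceAs (IsSchemeTheoreticallyDominant r.left.toImage)
  have hvqc : QuasiCompact v.left := inferInstanceAs (QuasiCompact r.left.toImage)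
  have hXX' : IsProper (X ⊗ X').hom := by
    have : IsProper (snd X X').left :=
      Groth.Agent.Lib.GrpSch.snd_left_of (P := @IsProper) X' hXp
    rw [← Over.w (snd X X')]
    infer_instance
  have hT₁p : IsProper T₁.hom := inferInstanceAs (IsProper (r.left.imageι ≫ (X ⊗ X').hom))
  have hT₁f : Flat T₁.hom := by
    refine hflat T₁.hom (L := L) v.left ?_
    rw [Over.w v]
    change (xs ≫ X.hom) _ = _
    rw [Scheme.Hom.comp_apply]
    exact (congrArg X.hom (X.left.fromSpecResidueField_apply x _)).trans hx
  have hT₁s : Surjective T₁.hom := by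
    refine ⟨fun z ↦ ?_⟩
    have hc := T₁.hom.isClosedMap.isClosed_range
    have h0 : genericPoint S ∈ Set.range T₁.hom := by
      refine ⟨v.left (IsLocalRing.closedPoint L), ?_⟩
      rw [← Scheme.Hom.comp_apply, Over.w v]
      change (xs ≫ X.hom) _ = _
      rw [Scheme.Hom.comp_apply]
      exact (congrArg X.hom (X.left.fromSpecResidueField_apply x _)).trans hx
    exact (genericPoint_specializes z).mem_closed hc h0
  -- `E` extends `h`
  have hgmono : ∀ {W : Over S} (i j : W ⟶ genOver S), i = j := fun i j ↦ by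
    apply Over.OverMorphism.ext
    rw [← cancel_mono ξ]
    exact (Over.w i).trans (Over.w j).symm
  have hEh : ∀ {W : Over S} (w : W ⟶ X) (t : W ⟶ T₁) (g : W ⟶ genOver S),
      lift w t ≫ E = lift w g ≫ h := by
    intro W w t g
    have hmain : (X ◁ fst T₁ (genOver S)) ≫ E = (X ◁ snd T₁ (genOver S)) ≫ h := by
      have hd : IsSchemeTheoreticallyDominant (X ◁ lift v u).left := by
        have : IsSchemeTheoreticallyDominant (genOver S).hom :=
          inferInstanceAs (IsSchemeTheoreticallyDominant (S.fromSpecStalk (genericPoint S)))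
        have : Flat (fst T₁ (genOver S)).left :=
          Groth.Agent.Lib.GrpSch.fst_left_of (P := @Flat) T₁ (flat_fromSpecStalk _)
        have hsq : IsPullback (lift v u).left (𝟙 T₀.left) (fst T₁ (genOver S)).left v.left := by
          refine ⟨⟨by rw [← Over.comp_left, lift_fst, Category.id_comp]⟩, ⟨?_⟩⟩
          refine PullbackCone.IsLimit.mk _ (fun c ↦ c.snd) (fun c ↦ ?_) (fun c ↦ ?_)
            (fun c m _ hm ↦ (Category.comp_id m).symm.trans hm)
          · apply (Groth.Agent.Lib.GrpSch.isPullback_left T₁ (genOver S)).hom_ext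
            · rw [Category.assoc, ← Over.comp_left, lift_fst]; exact c.condition.symm
            · rw [Category.assoc, ← Over.comp_left, lift_snd, ← cancel_mono ξ, Category.assoc,
                Category.assoc]
              refine (congrArg (c.snd ≫ ·) ((Over.w u).trans (Over.w v).symm)).trans ?_
              rw [← Category.assoc, ← c.condition, Category.assoc]
              exact congrArg _ (Groth.Agent.Lib.GrpSch.isPullback_left T₁ (genOver S)).w
          · exact Category.comp_id _
        have : IsSchemeTheoreticallyDominant (lift v u).left :=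
          IsSchemeTheoreticallyDominant.of_isPullback hsq.flip
        have : QuasiCompact (lift v u).left :=
          MorphismProperty.of_isPullback (P := @QuasiCompact) hsq.flip hvqc
        have : Flat (snd X (T₁ ⊗ genOver S)).left :=
          Groth.Agent.Lib.GrpSch.snd_left_of (P := @Flat) _ ‹Flat X.hom›
        exact IsSchemeTheoreticallyDominant.of_isPullback
          (Groth.Agent.Lib.GrpSch.isPullback_whiskerLeft X (lift v u)).flip
      apply Over.OverMorphism.ext
      refine Groth.Agent.Lib.SchDense.Basic.ext_of_std X'.hom ((Over.w _).trans (Over.w _).symm)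
        (X ◁ lift v u).left ?_
      rw [← Over.comp_left, ← Over.comp_left, ← whiskerLeft_comp_assoc, ← whiskerLeft_comp_assoc,
        lift_fst, lift_snd, key]
    have := congr(lift w (lift t g) ≫ $hmain)
    simpa [lift_whiskerLeft_assoc] using this
  -- descent
  obtain ⟨f, hf⟩ := exists_desc ‹Flat X.hom› hT₁s hT₁f inferInstance h E hEh
  exact Ext.nonempty_equivIso ha ha'.1 hh f hf

set_option backward.isDefEq.respectTransparency false in
/-- Torsors under a proper flat group over a Dedekind base which are isomorphic over the generic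
point are isomorphic. -/
theorem nonempty_equivIso {R : Type u} [CommRing R] [IsDedekindDomain R]
    {G X X' : Over (Spec (CommRingCat.of R))} [GrpObj G] [IsProper G.hom] [Flat G.hom]
    {a : AlgGrp.Action G X} {a' : AlgGrp.Action G X'}
    (ha : NonAbH1.IsTorsorFor Scheme.fpqcPrecoverage a)
    (ha' : NonAbH1.IsTorsorFor Scheme.fpqcPrecoverage a')
    {h : X ⊗ genOver (Spec (CommRingCat.of R)) ⟶ X'} (hh : EquivariantOver a a' h) :
    Nonempty (NonAbH1.EquivIso a a') := by
  refine nonempty_equivIso_of_flat (fun {T} p {L} _ d _ _ hd ↦ ?_) ha ha' hh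
  refine flat_of_std p d (Spec.preimage (d ≫ p)).hom ?_ (Spec.map_preimage _).symm
  rw [RingHom.injective_iff_ker_eq_bot]
  have e : (Spec.map (Spec.preimage (d ≫ p))) (IsLocalRing.closedPoint L) =
      genericPoint (Spec (CommRingCat.of R)) := by rw [Spec.map_preimage]; exact hd
  rw [genericPoint_eq_bot_of_affine] at e
  have := congr_arg PrimeSpectrum.asIdeal e
  change Ideal.comap (Spec.preimage (d ≫ p)).hom (IsLocalRing.maximalIdeal L) = ⊥ at this
  rwa [IsLocalRing.maximalIdeal_eq_bot] at this

/-- The generic point of a Dedekind domain maps to the spectrum of its fraction field. -/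
theorem exists_genOver_hom (R : Type u) [CommRing R] [IsDomain R] :
    Nonempty (genOver (Spec (CommRingCat.of R)) ⟶ Over.mk (Neron.genPt R)) := by
  set S := Spec (CommRingCat.of R)
  let φ := Spec.preimage (R := CommRingCat.of R) (S := S.functionField)
    (S.fromSpecStalk (genericPoint S))
  have hφ : Function.Injective φ.hom := by
    rw [RingHom.injective_iff_ker_eq_bot]
    have e : (Spec.map φ) (IsLocalRing.closedPoint S.functionField) = genericPoint S := by
      rw [Spec.map_preimage]; exact Scheme.fromSpecStalk_closedPoint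
    have := congr_arg PrimeSpectrum.asIdeal (e.trans (genericPoint_eq_bot_of_affine _))
    change Ideal.comap φ.hom (IsLocalRing.maximalIdeal S.functionField) = ⊥ at this
    rwa [IsLocalRing.maximalIdeal_eq_bot] at this
  refine ⟨Over.homMk (Spec.map (CommRingCat.ofHom
    (IsFractionRing.lift (K := FractionRing R) hφ))) ?_⟩
  change Spec.map _ ≫ Neron.genPt R = S.fromSpecStalk (genericPoint S)
  rw [← Spec.map_preimage (S.fromSpecStalk (genericPoint S))]
  refine (Spec.map_comp _ _).symm.trans (congrArg Spec.map ?_)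
  ext r
  exact IsFractionRing.lift_algebraMap hφ r

end Groth.Agent.Lib.TorsorSch.ExtProper
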