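import Groth.Agent.Lib.TorsorSch.Basic
import Groth.Agent.Lib.GrpSch.SmoothReduced

/-!
# Torsors under finite connected group schemes over a field
-/

universe u

open CategoryTheory MonoidalCategory CartesianMonoidalCategory MonObj AlgebraicGeometry
open CategoryTheory.Limits

namespace Groth.Agent.Lib.TorsorSch.Field

variable {K : Type u} [Field K] {G X : Over (Spec (CommRingCat.of K))} [GrpObj G]

instance : Subsingleton (Spec (CommRingCat.of K)) :=
  inferInstanceAs (Subsingleton (PrimeSpectrum K))

instance : Nonempty (Spec (CommRingCat.of K)) :=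
  inferInstanceAs (Nonempty (PrimeSpectrum K))

omit [GrpObj G] in
theorem subsingleton_of_isFinite [IsFinite G.hom] [ConnectedSpace G.left] : Subsingleton G.left := by
  have : IsArtinianScheme (Spec (CommRingCat.of K)) := inferInstance
  have : IsLocallyArtinian G.left := IsLocallyArtinian.of_locallyQuasiFinite G.hom
  exact PreconnectedSpace.trivial_of_discrete

/-- A finite connected group scheme over a field has only the trivial point with values in a
reduced scheme. -/
theorem eq_one_of_isReduced [IsFinite G.hom] [ConnectedSpace G.left]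
    {T : Over (Spec (CommRingCat.of K))} [IsReduced T.left] (g : T ⟶ G) : g = 1 := by
  have := subsingleton_of_isFinite (G := G)
  set e : Spec (CommRingCat.of K) ⟶ G.left := (η[G] : 𝟙_ _ ⟶ G).left
  have he : e ≫ G.hom = 𝟙 _ := Over.w η[G]
  have : IsClosedImmersion (e ≫ G.hom) := he ▸ inferInstance
  have : IsClosedImmersion e := IsClosedImmersion.of_comp e G.hom
  have : Surjective e :=
    ⟨fun x ↦ ⟨Classical.arbitrary (Spec (CommRingCat.of K)), Subsingleton.elim _ _⟩⟩
  have : IsIso (pullback.fst g.left e) := isIso_of_isClosedImmersion_of_surjective _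
  have h : inv (pullback.fst g.left e) ≫ pullback.snd g.left e ≫ e = g.left := by
    rw [IsIso.inv_comp_eq, pullback.condition]
  have h2 : inv (pullback.fst g.left e) ≫ pullback.snd g.left e = T.hom := by
    refine Eq.trans ?_ (Over.w g)
    conv_rhs => arg 1; rw [← h]
    simp [he]
  ext
  rw [Hom.one_def, Over.comp_left, ← h, reassoc_of% h2]
  simp [e]

/-- Points of a pseudo-torsor under such a group with values in a reduced scheme are unique. -/
theorem eq_of_isReduced [IsFinite G.hom] [ConnectedSpace G.left] {a : AlgGrp.Action G X}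
    (ha : NonAbH1.IsPseudoTorsorSch a) {T : Over (Spec (CommRingCat.of K))} [IsReduced T.left]
    (x y : T ⟶ X) : x = y := by
  have : IsIso (lift a.act (snd G X)) := ha
  set w := lift x y ≫ inv (lift a.act (snd G X)) with hw
  have e : w ≫ lift a.act (snd G X) = lift x y := by
    rw [hw, Category.assoc, IsIso.inv_hom_id, Category.comp_id]
  have e1 : w ≫ a.act = x := by simpa using congr($e ≫ fst X X)
  have e2 : w ≫ snd G X = y := by simpa using congr($e ≫ snd X X)
  rw [← e1, ← lift_comp_fst_snd w, eq_one_of_isReduced (w ≫ fst G X), e2,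
    Groth.Agent.Lib.GrpSch.act_one]

/-- A point with values in a nonempty affine etale scheme gives a rational point. -/
theorem hasSectionOver_id_of_etale_point [IsFinite G.hom] [ConnectedSpace G.left]
    {a : AlgGrp.Action G X} (ha : NonAbH1.IsPseudoTorsorSch a) {T : Scheme.{u}} [IsAffine T]
    [Nonempty T] (t : T ⟶ Spec (CommRingCat.of K)) [Etale t] (x : T ⟶ X.left)
    (hx : x ≫ X.hom = t) :
    NonAbH1.HasSectionOver X (𝟙 (Spec (CommRingCat.of K))) := by
  have : Surjective t := ⟨fun y ↦ ⟨Classical.arbitrary T, Subsingleton.elim _ _⟩⟩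
  have hq : ∀ {Z : Scheme.{u}} (g₁ g₂ : Z ⟶ T), g₁ ≫ t = g₂ ≫ t → g₁ ≫ x = g₂ ≫ x := by
    intro Z g₁ g₂ h
    have : IsReduced (pullback t t) :=
      Groth.Agent.Lib.GrpSch.isReduced_of_smooth_field (pullback.fst t t ≫ t)
    have : IsReduced (Over.mk (pullback.fst t t ≫ t)).left := this
    have := eq_of_isReduced ha
      (Over.homMk (U := Over.mk (pullback.fst t t ≫ t)) (pullback.fst t t ≫ x) (by simp [hx]))
      (Over.homMk (U := Over.mk (pullback.fst t t ≫ t)) (pullback.snd t t ≫ x)
        (by simp [hx, pullback.condition]))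
    have h' : pullback.fst t t ≫ x = pullback.snd t t ≫ x := congr(($this).left)
    calc g₁ ≫ x = pullback.lift g₁ g₂ h ≫ pullback.fst t t ≫ x := by rw [pullback.lift_fst_assoc]
      _ = pullback.lift g₁ g₂ h ≫ pullback.snd t t ≫ x := by rw [h']
      _ = g₂ ≫ x := by rw [pullback.lift_snd_assoc]
  refine ⟨EffectiveEpi.desc t x hq, ?_⟩
  rw [← cancel_epi t, EffectiveEpi.fac_assoc, hx, Category.comp_id]

theorem surjective_hom : Surjective G.hom :=
  ⟨fun x ↦ ⟨(η[G] : 𝟙_ _ ⟶ G).left x, congr($(Over.w η[G]) x)⟩⟩

/-- The rank of a finite torsor over a field is the rank of the group. -/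
theorem finrank_eq [IsFinite G.hom] {a : AlgGrp.Action G X} [IsFinite X.hom]
    (ha : NonAbH1.IsPseudoTorsorSch a) {T : Over (Spec (CommRingCat.of K))} [Nonempty T.left]
    (s : T ⟶ X) (z : Spec (CommRingCat.of K)) :
    X.hom.finrank z = G.hom.finrank z := by
  have : IsIntegral (Spec (CommRingCat.of K)) := inferInstance
  have := Groth.Agent.Lib.TorsorSch.Basic.isIso_triv a ha s
  set e := Groth.Agent.Lib.TorsorSch.Basic.triv a s
  have : IsIso e.left := (inferInstance : IsIso ((Over.forget _).map e))
  obtain ⟨t⟩ := ‹Nonempty T.left›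
  obtain rfl : z = T.hom t := Subsingleton.elim _ _
  have hX := (Groth.Agent.Lib.GrpSch.isPullback_left X T)
  have : Flat X.hom := inferInstance
  have : Flat G.hom := inferInstance
  have : IsFinite (snd X T).left := MorphismProperty.of_isPullback (P := @IsFinite) hX ‹_›
  have : Flat (snd X T).left := MorphismProperty.of_isPullback (P := @Flat) hX ‹_›
  rw [← Scheme.Hom.finrank_of_isPullback _ _ _ _ hX t,
    ← Scheme.Hom.finrank_of_isPullback _ _ _ _ (Groth.Agent.Lib.GrpSch.isPullback_left G T) t,
    ← Scheme.Hom.finrank_comp_left_of_isIso e.left (snd X T).left, ← Over.comp_left,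
    Groth.Agent.Lib.TorsorSch.Basic.triv_snd]

omit [GrpObj G] in
/-- A nonempty finite scheme over a field has a closed point whose residue field is finite, of
degree bounded by the rank. -/
theorem exists_field_point (X : Over (Spec (CommRingCat.of K))) [IsFinite X.hom]
    [Nonempty X.left] :
    ∃ (L : Type u) (_ : Field L) (_ : Algebra K L) (_ : Module.Finite K L)
      (x : Spec (CommRingCat.of L) ⟶ X.left), Mono x ∧
        x ≫ X.hom = Spec.map (CommRingCat.ofHom (algebraMap K L)) ∧
        ∀ z, Module.finrank K L ≤ X.hom.finrank z := by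
  have : IsAffine X.left := isAffine_of_isAffineHom X.hom
  let φ := Spec.preimage (X.left.isoSpec.inv ≫ X.hom)
  have hφ : Spec.map φ = X.left.isoSpec.inv ≫ X.hom := Spec.map_preimage _
  have hfin : φ.hom.Finite := by
    rw [← IsFinite.SpecMap_iff, hφ]
    infer_instance
  let A := Γ(X.left, ⊤)
  let : Algebra K A := φ.hom.toAlgebra
  have : Module.Finite K A := hfin
  have : Nonempty (Spec A) := Nonempty.map X.left.isoSpec.hom inferInstance
  have : Nontrivial A := PrimeSpectrum.nonempty_iff_nontrivial.mp this
  obtain ⟨m, hm⟩ := Ideal.exists_maximal A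
  let := Ideal.Quotient.field m
  refine ⟨A ⧸ m, inferInstance, inferInstance, inferInstance,
    Spec.map (CommRingCat.ofHom (Ideal.Quotient.mk m)) ≫ X.left.isoSpec.inv, ?_, ?_, fun z ↦ ?_⟩
  · have : IsClosedImmersion (Spec.map (CommRingCat.ofHom (Ideal.Quotient.mk m))) :=
      IsClosedImmersion.spec_of_surjective _ Ideal.Quotient.mk_surjective
    infer_instance
  · rw [Category.assoc, ← hφ, ← Spec.map_comp]
    rfl
  · have e : X.hom.finrank z = Module.finrank K A := by
      rw [← Scheme.Hom.finrank_comp_left_of_isIso X.left.isoSpec.inv X.hom, ← hφ]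
      have h1 : φ = CommRingCat.ofHom (algebraMap K A) := rfl
      rw [h1, Scheme.Hom.finrank_SpecMap_algebraMap, Module.rankAtStalk_eq_finrank_of_free]
      rfl
    rw [e]
    exact LinearMap.finrank_le_finrank_of_surjective (f := (Ideal.Quotient.mkₐ K m).toLinearMap)
      Ideal.Quotient.mk_surjective

end Groth.Agent.Lib.TorsorSch.Field
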