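import Groth.Prelude.Def_ActBC
import Groth.Prelude.Def_Red
import Groth.Prelude.Def_NonAbH2
import Mathlib
import Groth.Agent.Lib.TorsorSch.Basic
import Groth.Agent.Lib.TorsorSch.Field
import Groth.Agent.H22.FibreRank

/-!
# Fibre products of torsors under finite groups over a field
-/

universe u

open CategoryTheory CategoryTheory.Limits MonoidalCategory CartesianMonoidalCategory MonObj GrpObj AlgebraicGeometry
open TopologicalSpace
open scoped TensorProduct

namespace Groth.Agent.Lib.TorsorSch.FibreProd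

section general

variable {S : Scheme.{u}} {G G₁ G₂ Q X X₁ X₂ : Over S} [GrpObj G] [GrpObj G₁] [GrpObj G₂] [GrpObj Q]

theorem existsUnique_of_pseudo {a : AlgGrp.Action G X} (ha : NonAbH1.IsPseudoTorsorSch a) {T : Over S} (x y : T ⟶ X) :
    ∃! g : T ⟶ G, lift g x ≫ a.act = y := by
  have : IsIso (lift a.act (snd G X)) := ha
  have e : lift y x ≫ inv (lift a.act (snd G X)) ≫ lift a.act (snd G X) = lift y x := by
    rw [IsIso.inv_hom_id, Category.comp_id]
  let r := lift y x ≫ inv (lift a.act (snd G X))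
  have h1 : r ≫ a.act = y := by simpa [r] using congr($e ≫ fst X X)
  have h2 : r ≫ snd G X = x := by simpa [r] using congr($e ≫ snd X X)
  have h3 : lift (r ≫ fst G X) x = r := by
    apply CartesianMonoidalCategory.hom_ext
    · rw [lift_fst]
    · rw [lift_snd, h2]
  refine ⟨r ≫ fst G X, by show lift (r ≫ fst G X) x ≫ a.act = y; rw [h3, h1], fun g hg => ?_⟩
  have h4 : lift g x = r := by
    rw [← cancel_mono (lift a.act (snd G X))]
    apply CartesianMonoidalCategory.hom_ext
    · rw [Category.assoc, Category.assoc, lift_fst, hg, h1]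
    · rw [Category.assoc, Category.assoc, lift_snd, lift_snd, h2]
  rw [← h4, lift_fst]

theorem pseudo_of_existsUnique {a : AlgGrp.Action G X}
    (h : ∀ {T : Over S} (x y : T ⟶ X), ∃! g : T ⟶ G, lift g x ≫ a.act = y) : NonAbH1.IsPseudoTorsorSch a := by
  obtain ⟨g, hg, -⟩ := h (snd X X) (fst X X)
  refine ⟨lift g (snd X X), ?_, ?_⟩
  · apply CartesianMonoidalCategory.hom_ext
    · rw [Category.assoc, lift_fst, Category.id_comp]
      refine (h (snd G X) a.act).unique ?_ (by rw [lift_fst_snd, Category.id_comp])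
      have := congrArg (fun k => lift a.act (snd G X) ≫ k) hg
      simpa [comp_lift_assoc] using this
    · simp
  · apply CartesianMonoidalCategory.hom_ext
    · rw [Category.assoc, lift_fst, Category.id_comp, hg]
    · simp

/-- The fibre product of two pseudo-torsors over a third is one under the fibre product of the groups. -/
theorem exists_action {φ₁ : G₁ ⟶ G} {φ₂ : G₂ ⟶ G} [IsMonHom φ₁] [IsMonHom φ₂]
    {π₁ : Q ⟶ G₁} {π₂ : Q ⟶ G₂} [IsMonHom π₁] [IsMonHom π₂] (hQ : IsPullback π₁ π₂ φ₁ φ₂)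
    (b : AlgGrp.Action G X) (b₁ : AlgGrp.Action G₁ X₁) (b₂ : AlgGrp.Action G₂ X₂)
    (f₁ : X₁ ⟶ X) (f₂ : X₂ ⟶ X)
    (hf₁ : AlgGrp.Action.IsEquivariant b₁ (b.restrict φ₁) f₁)
    (hf₂ : AlgGrp.Action.IsEquivariant b₂ (b.restrict φ₂) f₂) :
    ∃ c : AlgGrp.Action Q (pullback f₁ f₂),
      AlgGrp.Action.IsEquivariant c (b₁.restrict π₁) (pullback.fst f₁ f₂) ∧
      AlgGrp.Action.IsEquivariant c (b₂.restrict π₂) (pullback.snd f₁ f₂) ∧
      (NonAbH1.IsPseudoTorsorSch b → NonAbH1.IsPseudoTorsorSch b₁ → NonAbH1.IsPseudoTorsorSch b₂ →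
        NonAbH1.IsPseudoTorsorSch c) := by
  have e1 : ∀ {Z : Over S} (g : Z ⟶ G₁) (w : Z ⟶ X₁), lift g w ≫ b₁.act ≫ f₁ = lift (g ≫ φ₁) (w ≫ f₁) ≫ b.act := by
    intro Z g w
    rw [show b₁.act ≫ f₁ = _ from hf₁, lift_whiskerLeft_assoc, AlgGrp.Action.lift_restrict_act]
  have e2 : ∀ {Z : Over S} (g : Z ⟶ G₂) (w : Z ⟶ X₂), lift g w ≫ b₂.act ≫ f₂ = lift (g ≫ φ₂) (w ≫ f₂) ≫ b.act := by
    intro Z g w
    rw [show b₂.act ≫ f₂ = _ from hf₂, lift_whiskerLeft_assoc, AlgGrp.Action.lift_restrict_act]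
  let W := pullback f₁ f₂
  let act : Q ⊗ W ⟶ W := pullback.lift
    (lift (fst _ _ ≫ π₁) (snd _ _ ≫ pullback.fst f₁ f₂) ≫ b₁.act)
    (lift (fst _ _ ≫ π₂) (snd _ _ ≫ pullback.snd f₁ f₂) ≫ b₂.act) (by
      rw [Category.assoc, Category.assoc, e1, e2]
      simp only [Category.assoc, hQ.w, pullback.condition])
  have hA : ∀ {Z : Over S} (q : Z ⟶ Q) (w : Z ⟶ W),
      (lift q w ≫ act ≫ pullback.fst f₁ f₂ = lift (q ≫ π₁) (w ≫ pullback.fst f₁ f₂) ≫ b₁.act) ∧
      (lift q w ≫ act ≫ pullback.snd f₁ f₂ = lift (q ≫ π₂) (w ≫ pullback.snd f₁ f₂) ≫ b₂.act) := by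
    intro Z q w
    constructor
    · rw [pullback.lift_fst, comp_lift_assoc, lift_fst_assoc, lift_snd_assoc]
    · rw [pullback.lift_snd, comp_lift_assoc, lift_fst_assoc, lift_snd_assoc]
  let c : AlgGrp.Action Q W :=
    { act := act
      one_act := by
        apply AlgGrp.Action.hom_ext_lift₂
        intro Z u w
        have hu : u ≫ η[Q] = 1 := by rw [Hom.one_def, toUnit_unique (toUnit Z) u]
        rw [lift_whiskerRight_assoc, hu, leftUnitor_hom, lift_snd]
        apply pullback.hom_ext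
        · rw [Category.assoc, (hA _ _).1, MonObj.one_comp, AlgGrp.Action.lift_one_act]
        · rw [Category.assoc, (hA _ _).2, MonObj.one_comp, AlgGrp.Action.lift_one_act]
      mul_act := by
        apply AlgGrp.Action.hom_ext_lift₃
        intro Z q q' w
        rw [lift_whiskerRight_assoc, ← Hom.mul_def, lift_lift_associator_hom_assoc, lift_whiskerLeft_assoc]
        apply pullback.hom_ext
        · rw [Category.assoc, Category.assoc, (hA _ _).1, (hA _ _).1, MonObj.mul_comp, AlgGrp.Action.lift_mul_act,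
            Category.assoc, (hA _ _).1]
        · rw [Category.assoc, Category.assoc, (hA _ _).2, (hA _ _).2, MonObj.mul_comp, AlgGrp.Action.lift_mul_act,
            Category.assoc, (hA _ _).2] }
  refine ⟨c, ?_, ?_, fun hb hb₁ hb₂ => pseudo_of_existsUnique fun {Z} x y => ?_⟩
  · apply AlgGrp.Action.hom_ext_lift₂
    intro Z q w
    exact (hA q w).1.trans ((AlgGrp.Action.lift_restrict_act π₁ b₁ q _).symm.trans (lift_whiskerLeft_assoc ..).symm)
  · apply AlgGrp.Action.hom_ext_lift₂
    intro Z q w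
    exact (hA q w).2.trans ((AlgGrp.Action.lift_restrict_act π₂ b₂ q _).symm.trans (lift_whiskerLeft_assoc ..).symm)
  · obtain ⟨g₁, hg₁, hu₁⟩ := existsUnique_of_pseudo hb₁ (x ≫ pullback.fst f₁ f₂) (y ≫ pullback.fst f₁ f₂)
    obtain ⟨g₂, hg₂, hu₂⟩ := existsUnique_of_pseudo hb₂ (x ≫ pullback.snd f₁ f₂) (y ≫ pullback.snd f₁ f₂)
    have hφ : g₁ ≫ φ₁ = g₂ ≫ φ₂ := by
      refine (existsUnique_of_pseudo hb (x ≫ pullback.fst f₁ f₂ ≫ f₁) (y ≫ pullback.fst f₁ f₂ ≫ f₁)).unique ?_ ?_
      · rw [← Category.assoc x, ← e1, ← Category.assoc, hg₁, Category.assoc]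
      · rw [pullback.condition, ← Category.assoc x, ← e2, ← Category.assoc, hg₂, Category.assoc]
    refine ⟨hQ.lift g₁ g₂ hφ, ?_, fun q hq => ?_⟩
    · show lift _ x ≫ act = y
      apply pullback.hom_ext
      · rw [Category.assoc, (hA _ _).1, hQ.lift_fst, hg₁]
      · rw [Category.assoc, (hA _ _).2, hQ.lift_snd, hg₂]
    · have hq' : lift q x ≫ act = y := hq
      apply hQ.hom_ext
      · rw [hQ.lift_fst]
        exact hu₁ _ (by show lift _ _ ≫ b₁.act = _; rw [← (hA _ _).1, ← Category.assoc, hq'])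
      · rw [hQ.lift_snd]
        exact hu₂ _ (by show lift _ _ ≫ b₂.act = _; rw [← (hA _ _).2, ← Category.assoc, hq'])

end general

variable {k : Type u} [Field k] {X : Scheme.{u}} (p : X ⟶ Spec (CommRingCat.of k))

theorem finite_flat_of_torsor {G : Over (Spec (CommRingCat.of k))} [GrpObj G] [IsFinite G.hom] {T : Over X}
    {a : AlgGrp.Action (Red.bc p G) T} (ha : NonAbH1.IsTorsorFor Scheme.fppfPrecoverage a) :
    IsFinite T.hom ∧ Flat T.hom ∧ LocallyOfFinitePresentation T.hom := by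
  have h := Descent.isTorsorFor_mono Scheme.fppfPrecoverage_le_fpqcPrecoverage ha
  have h1 : IsFinite (Red.bc p G).hom := MorphismProperty.pullback_snd _ _ ‹_›
  have : LocallyOfFinitePresentation G.hom := inferInstance
  have h2 : Flat (Red.bc p G).hom := MorphismProperty.pullback_snd _ _ inferInstance
  have h3 : LocallyOfFinitePresentation (Red.bc p G).hom := MorphismProperty.pullback_snd _ _ this
  exact ⟨Basic.of_hom h h1, Basic.of_hom h h2, Basic.of_hom h h3⟩

section

variable {G : Over (Spec (CommRingCat.of k))} [GrpObj G] [IsFinite G.hom] {T T₁ T₂ : Over X}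
  {a : AlgGrp.Action (Red.bc p G) T} (ha : NonAbH1.IsPseudoTorsorSch a) (f₁ : T₁ ⟶ T) (f₂ : T₂ ⟶ T)

include ha in
/-- The fibre product over `T` is, as a set, clopen in the fibre product over `X`. -/
theorem isClopen_range :
    IsClopen (Set.range (CartesianMonoidalCategory.lift (pullback.fst f₁ f₂) (pullback.snd f₁ f₂)).left) := by
  set j := CartesianMonoidalCategory.lift (pullback.fst f₁ f₂) (pullback.snd f₁ f₂)
  obtain ⟨g, hg, hgu⟩ := existsUnique_of_pseudo ha (snd T₁ T₂ ≫ f₂) (fst T₁ T₂ ≫ f₁)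
  let d : (T₁ ⊗ T₂).left ⟶ G.left := g.left ≫ pullback.fst G.hom p
  let e : Spec (CommRingCat.of k) ⟶ G.left := (η[G] : 𝟙_ _ ⟶ G).left
  have hone : ∀ {Z : Over X}, ((1 : Z ⟶ Red.bc p G)).left ≫ pullback.fst G.hom p = Z.hom ≫ p ≫ e := by
    intro Z
    rw [Hom.one_def, Over.comp_left, Category.assoc]
    congr 1
    rw [Functor.obj.η_def, Over.comp_left, Category.assoc, ActBC.pullback_map_left_fst]
    simp [e]
  have hj : ∀ x, (x ∈ Set.range j.left ↔ d x ∈ Set.range e) := by
    intro x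
    constructor
    · rintro ⟨z, rfl⟩
      have h1 : j ≫ g = 1 := by
        refine (existsUnique_of_pseudo ha (j ≫ snd T₁ T₂ ≫ f₂) (j ≫ fst T₁ T₂ ≫ f₁)).unique ?_ ?_
        · rw [← comp_lift_assoc, hg]
        · rw [AlgGrp.Action.lift_one_act]
          simp only [j, lift_snd_assoc, lift_fst_assoc, pullback.condition]
      have h2 : j.left ≫ d = (pullback f₁ f₂).hom ≫ p ≫ e := by
        rw [← Category.assoc, ← Over.comp_left, h1, hone]
      exact ⟨((pullback f₁ f₂).hom ≫ p) z, congr($(h2.symm) z)⟩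
    · intro hx
      have hx' : x ∈ Set.range (pullback.fst d e) := by rw [Scheme.Pullback.range_fst]; exact hx
      obtain ⟨z, rfl⟩ := hx'
      let P : Over X := Over.mk (pullback.fst d e ≫ (T₁ ⊗ T₂).hom)
      let i : P ⟶ T₁ ⊗ T₂ := Over.homMk (pullback.fst d e) rfl
      have h0 : d ≫ G.hom = (T₁ ⊗ T₂).hom ≫ p := by
        rw [Category.assoc, pullback.condition, ← Category.assoc]
        exact congrArg (· ≫ p) (Over.w g)
      have h1 : i ≫ g = 1 := by
        ext1
        apply pullback.hom_ext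
        · rw [hone]
          show pullback.fst d e ≫ d = pullback.fst d e ≫ (T₁ ⊗ T₂).hom ≫ p ≫ e
          rw [pullback.condition]
          have : pullback.snd d e = pullback.fst d e ≫ (T₁ ⊗ T₂).hom ≫ p := by
            rw [← h0, pullback.condition_assoc, show e ≫ G.hom = 𝟙 _ from Over.w η[G], Category.comp_id]
          rw [this, Category.assoc, Category.assoc]
        · exact (Over.w (i ≫ g)).trans (Over.w (1 : P ⟶ Red.bc p G)).symm
      have h2 : (i ≫ fst T₁ T₂) ≫ f₁ = (i ≫ snd T₁ T₂) ≫ f₂ := by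
        rw [Category.assoc, Category.assoc, ← hg, ← Category.assoc, comp_lift, h1, AlgGrp.Action.lift_one_act]
      have h3 : pullback.lift _ _ h2 ≫ j = i := by
        apply CartesianMonoidalCategory.hom_ext
        · rw [Category.assoc, lift_fst, pullback.lift_fst]
        · rw [Category.assoc, lift_snd, pullback.lift_snd]
      exact ⟨(pullback.lift _ _ h2).left z, congr($(congrArg CommaMorphism.left h3) z)⟩
  have : IsArtinianScheme (Spec (CommRingCat.of k)) := inferInstance
  have : IsLocallyArtinian G.left := IsLocallyArtinian.of_locallyQuasiFinite G.hom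
  have hs : Set.range j.left = d ⁻¹' Set.range e := Set.ext hj
  rw [hs]
  exact (isClopen_discrete _).preimage d.continuous

include ha in
theorem surjective [ConnectedSpace X] (h₁ : IsFinite T₁.hom ∧ Flat T₁.hom ∧ LocallyOfFinitePresentation T₁.hom)
    (h₂ : IsFinite T₂.hom ∧ Flat T₂.hom ∧ LocallyOfFinitePresentation T₂.hom) (hne : Nonempty (pullback f₁ f₂).left) :
    Surjective (pullback f₁ f₂).hom := by
  obtain ⟨_, _, _⟩ := h₁
  obtain ⟨_, _, _⟩ := h₂
  set j := CartesianMonoidalCategory.lift (pullback.fst f₁ f₂) (pullback.snd f₁ f₂)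
  have hD : (T₁ ⊗ T₂).hom = pullback.fst T₁.hom T₂.hom ≫ T₁.hom := rfl
  have : UniversallyOpen (T₁ ⊗ T₂).hom := by
    rw [hD]
    infer_instance
  have : IsFinite (T₁ ⊗ T₂).hom := by rw [hD]; infer_instance
  have hr : Set.range (pullback f₁ f₂).hom = (T₁ ⊗ T₂).hom '' Set.range j.left := by
    rw [← Over.w j, ← Set.range_comp]
    rfl
  obtain ⟨hcl, hop⟩ := isClopen_range p ha f₁ f₂
  have hc : IsClopen (Set.range (pullback f₁ f₂).hom) := by
    rw [hr]
    exact ⟨(T₁ ⊗ T₂).hom.isClosedMap _ hcl, (T₁ ⊗ T₂).hom.isOpenMap _ hop⟩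
  have := hne
  refine ⟨Set.range_eq_univ.1 ?_⟩
  exact (isClopen_iff.1 hc).resolve_left (Set.range_nonempty _).ne_empty

end

/-- A finite morphism to a reduced scheme all of whose fibres are finite flat of the same degree over the
residue fields is flat. -/
theorem flat_of_finrank {Z : Scheme.{u}} (h : Z ⟶ X) [IsFinite h] [AlgebraicGeometry.IsReduced X] (n : ℕ)
    (H : ∀ (K : Type u) [Field K] (g : Spec (CommRingCat.of K) ⟶ X) (z : Spec (CommRingCat.of K)),
      (pullback.snd h g).finrank z = n) : Flat h := by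
  rw [IsZariskiLocalAtTarget.iff_of_iSup_eq_top (P := @Flat) (fun U : X.affineOpens ↦ U.1) (iSup_affineOpens_eq_top X)]
  rintro ⟨U, hU⟩
  have : IsAffine (U : Scheme.{u}) := hU
  set hh := (h ∣_ U) ≫ (U : Scheme.{u}).isoSpec.hom
  have : IsFinite (h ∣_ U) := MorphismProperty.of_isPullback (P := @IsFinite) (isPullback_morphismRestrict h U).flip ‹_›
  have : IsFinite hh := inferInstance
  have : IsAffine (h ⁻¹ᵁ U : Scheme.{u}) := isAffine_of_isAffineHom hh
  let φ := Spec.preimage ((h ⁻¹ᵁ U : Scheme.{u}).isoSpec.inv ≫ hh)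
  have hφ : Spec.map φ = (h ⁻¹ᵁ U : Scheme.{u}).isoSpec.inv ≫ hh := Spec.map_preimage _
  have hfin : φ.hom.Finite := by rw [← IsFinite.SpecMap_iff, hφ]; infer_instance
  suffices hflat : φ.hom.Flat by
    have : Flat (Spec.map φ) := Flat.SpecMap_iff.2 hflat
    rw [hφ] at this
    rw [← MorphismProperty.cancel_left_of_respectsIso @Flat (h ⁻¹ᵁ U : Scheme.{u}).isoSpec.inv,
      ← MorphismProperty.cancel_right_of_respectsIso @Flat _ (U : Scheme.{u}).isoSpec.hom, Category.assoc]
    exact this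
  let A : Type u := Γ((U : Scheme.{u}), ⊤)
  let B : Type u := Γ((h ⁻¹ᵁ U : Scheme.{u}), ⊤)
  let : Algebra A B := φ.hom.toAlgebra
  have : Module.Finite A B := hfin
  have : _root_.IsReduced A := inferInstanceAs (_root_.IsReduced Γ((U : Scheme.{u}), ⊤))
  suffices Module.Projective A B from (inferInstance : Module.Flat A B)
  apply Groth.Agent.H22.FibreRank.projective_of_locallyConstant
  convert IsLocallyConstant.const (X := PrimeSpectrum A) n using 1
  funext q
  let K := q.asIdeal.ResidueField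
  let g₀ := Spec.map (CommRingCat.ofHom (algebraMap A K))
  let g : Spec (CommRingCat.of K) ⟶ X := g₀ ≫ (U : Scheme.{u}).isoSpec.inv ≫ U.ι
  have hsq0 : IsPullback ((h ⁻¹ᵁ U : Scheme.{u}).isoSpec.inv ≫ (h ⁻¹ᵁ U).ι) (Spec.map φ) h
      ((U : Scheme.{u}).isoSpec.inv ≫ U.ι) := by
    refine IsPullback.paste_horiz ?_ (isPullback_morphismRestrict h U).flip
    exact IsPullback.of_horiz_isIso ⟨by rw [hφ]; simp [hh]⟩
  have : IsFinite (pullback.snd h g) := MorphismProperty.pullback_snd _ _ ‹IsFinite h›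
  have : Flat (pullback.snd h g) := inferInstance
  have : IsFinite (Spec.map φ) := (IsFinite.SpecMap_iff _).2 hfin
  have : IsFinite (pullback.fst g₀ (Spec.map φ)) := MorphismProperty.pullback_fst _ _ ‹IsFinite (Spec.map φ)›
  have hsq := (IsPullback.of_hasPullback g₀ (Spec.map φ)).flip.paste_horiz hsq0
  obtain ⟨z⟩ : Nonempty (Spec (CommRingCat.of K)) := inferInstance
  have h1 := H K g z
  rw [← hsq.isoPullback.inv_hom_id_assoc (pullback.snd h g), hsq.isoPullback_hom_snd,
    Scheme.Hom.finrank_comp_left_of_isIso] at h1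
  have h2 : pullback.fst g₀ (Spec.map φ) =
      (pullbackSpecIso A K B).hom ≫ Spec.map (CommRingCat.ofHom (algebraMap K (K ⊗[A] B))) :=
    (pullbackSpecIso_hom_fst A K B).symm
  have : IsFinite (Spec.map (CommRingCat.ofHom (algebraMap K (K ⊗[A] B)))) :=
    (IsFinite.SpecMap_iff _).2 (RingHom.finite_algebraMap.2 inferInstance)
  rw [h2, Scheme.Hom.finrank_comp_left_of_isIso, Scheme.Hom.finrank_SpecMap_algebraMap,
    Module.rankAtStalk_eq_finrank_of_free] at h1
  exact h1

end Groth.Agent.Lib.TorsorSch.FibreProd
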