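import Groth.Agent.Lib.TorsorSch.ExtProper
import Groth.Agent.Lib.SchDense.Factor
import Groth.Agent.Lib.GrpSch.Basic
import Mathlib.Algebra.Category.Ring.Instances
import Groth.Prelude.Def_Red

/-!
# Schematic closures of subgroups of the generic fibre

* `flat_of_std'`: a scheme over a Dedekind domain receiving a scheme-theoretically dominant
  morphism from a scheme over the generic point is flat.
* `exists_closure`: the schematic closure of a closed subgroup of the generic fibre of a group
  scheme is a subgroup, as soon as it is flat.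
-/

universe u

open CategoryTheory CategoryTheory.Limits MonoidalCategory CartesianMonoidalCategory MonObj
open AlgebraicGeometry TopologicalSpace

namespace Groth.Agent.Lib.TorsorSch.Closure

open Groth.Agent.Lib.TorsorSch.ExtProper

theorem flat_of_std' {R : Type u} [CommRing R] [IsDedekindDomain R] {T : Scheme.{u}}
    (p : T ⟶ Spec (CommRingCat.of R)) {L : Type u} [Field L] {W : Scheme.{u}}
    (q : W ⟶ Spec (CommRingCat.of L)) (d : W ⟶ T)
    [IsSchemeTheoreticallyDominant d] [QuasiCompact d] (φ : R →+* L) (hφ : Function.Injective φ)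
    (hd : d ≫ p = q ≫ Spec.map (CommRingCat.ofHom φ)) : Flat p := by
  rw [HasRingHomProperty.iff_of_source_openCover (P := @Flat) T.affineCover]
  intro i
  let j := T.affineCover.f i
  have hinj : Function.Injective ((d.app j.opensRange).hom) := d.app_injective _
  -- the algebra map into sections over the open
  let c : CommRingCat.of R ⟶ Γ(Spec (CommRingCat.of R), ⊤) := (Scheme.ΓSpecIso _).inv
  let e : CommRingCat.of R ⟶ Γ(T, j.opensRange) := c ≫ p.appLE ⊤ j.opensRange le_top
  have hflat : e.hom.Flat := by
    algebraize [e.hom]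
    change Module.Flat R Γ(T, j.opensRange)
    rw [IsDedekindDomain.flat_iff_torsion_eq_bot, eq_bot_iff]
    rintro x ⟨⟨r, hr⟩, hrx⟩
    rw [Submodule.mem_bot]
    apply hinj
    rw [map_zero]
    have hu : IsUnit ((d.app j.opensRange).hom (e.hom r)) := by
      have he : e ≫ d.app j.opensRange =
          CommRingCat.ofHom φ ≫ (Scheme.ΓSpecIso (CommRingCat.of L)).inv ≫
            q.appLE ⊤ (d ⁻¹ᵁ j.opensRange) le_top := by
        have h1 : p.appLE ⊤ j.opensRange le_top ≫ d.app j.opensRange =
            (Spec.map (CommRingCat.ofHom φ)).appTop ≫ q.appLE ⊤ (d ⁻¹ᵁ j.opensRange) le_top := by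
          rw [Scheme.Hom.app_eq_appLE, Scheme.Hom.appLE_comp_appLE]
          simp only [hd]
          exact Scheme.Hom.comp_appLE _ _ _ _ _
        rw [Category.assoc, h1, ← Scheme.ΓSpecIso_inv_naturality_assoc]
      rw [← CommRingCat.comp_apply, he]
      exact (isUnit_iff_ne_zero.mpr ((map_ne_zero_iff φ hφ).mpr (nonZeroDivisors.ne_zero hr))).map
        ((Scheme.ΓSpecIso (CommRingCat.of L)).inv ≫
          q.appLE ⊤ (d ⁻¹ᵁ j.opensRange) le_top).hom
    have hz : (d.app j.opensRange).hom (e.hom r) * (d.app j.opensRange).hom x = 0 := by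
      rw [← map_mul]
      exact (congrArg _ hrx).trans (map_zero _)
    exact hu.mul_right_eq_zero.mp hz
  have hc : p.appLE ⊤ j.opensRange le_top = (Scheme.ΓSpecIso _).hom ≫ e := by
    simp [e, c]
  have hj : (j ≫ p).appTop = p.appLE ⊤ j.opensRange le_top ≫ j.appLE j.opensRange ⊤ (by simp) := by
    rw [Scheme.Hom.appLE_comp_appLE]
    rfl
  change ((j ≫ p).appTop).hom.Flat
  rw [hj, hc]
  refine RingHom.Flat.comp ?_ ?_
  · exact RingHom.Flat.comp (RingHom.Flat.of_bijective
      (ConcreteCategory.bijective_of_isIso (Scheme.ΓSpecIso (CommRingCat.of R)).hom)) hflat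
  · have : IsIso (j.appLE j.opensRange ⊤ (by simp)) := by
      rw [Scheme.Hom.appLE]
      have : IsIso (j.app j.opensRange) := Scheme.Hom.isIso_app j _ le_rfl
      have : IsIso ((T.affineCover.X i).presheaf.map
          (homOfLE (show ⊤ ≤ j ⁻¹ᵁ j.opensRange by simp)).op) := by
        have h' : IsIso (homOfLE (show (⊤ : (T.affineCover.X i).Opens) ≤ j ⁻¹ᵁ j.opensRange by simp)) :=
          ⟨homOfLE le_top, rfl, rfl⟩
        infer_instance
      infer_instance
    exact RingHom.Flat.of_bijective
      (ConcreteCategory.bijective_of_isIso (j.appLE j.opensRange ⊤ _))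

variable {S K : Scheme.{u}}

/-- Points of `G` on flat schemes lift to a closed subscheme `H` as soon as their generic fibres
do. -/
theorem exists_lift (g : K ⟶ S) [IsSchemeTheoreticallyDominant g] [QuasiCompact g]
    {G H : Over S} (j : H ⟶ G) [IsClosedImmersion j.left] {HK : Over K}
    (i : HK ⟶ Red.bc g G) (φ : HK.left ⟶ H.left)
    (hφ : φ ≫ j.left = i.left ≫ pullback.fst G.hom g)
    (W : Over S) [Flat W.hom] (k : W ⟶ G)
    (l : Red.bc g W ⟶ HK) (hl : l ≫ i = (Over.pullback g).map k) :
    ∃ k' : W ⟶ H, k' ≫ j = k := by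
  have : IsSchemeTheoreticallyDominant (pullback.fst W.hom g) :=
    IsSchemeTheoreticallyDominant.of_isPullback (IsPullback.of_hasPullback W.hom g).flip
  have hl' : (l.left ≫ φ) ≫ j.left = pullback.fst W.hom g ≫ k.left := by
    rw [Category.assoc, hφ]
    have h := congrArg (fun m => CommaMorphism.left m ≫ pullback.fst G.hom g) hl
    simp only [Over.comp_left, Category.assoc] at h
    refine h.trans ?_
    exact pullback.lift_fst _ _ _
  obtain ⟨h', hh'⟩ :=
    Groth.Agent.Lib.SchDense.Factor.exists_factor j.left k.left (pullback.fst W.hom g) _ hl'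
  refine ⟨Over.homMk h' ?_, Over.OverMorphism.ext hh'⟩
  rw [← Over.w j, reassoc_of% hh', Over.w k]

/-- The schematic closure of a closed subgroup of the generic fibre. -/
theorem exists_closure (g : K ⟶ S) [Mono g] [IsSchemeTheoreticallyDominant g] [QuasiCompact g]
    [Flat g]
    (hfl : ∀ {T W : Scheme.{u}} (p : T ⟶ S) (q : W ⟶ K) (d : W ⟶ T)
      [IsSchemeTheoreticallyDominant d] [QuasiCompact d], d ≫ p = q ≫ g → Flat p)
    (G : Over S) [GrpObj G] (HK : Over K) [GrpObj HK] (i : HK ⟶ Red.bc g G) [IsMonHom i]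
    [IsClosedImmersion i.left] :
    ∃ (H : Over S) (_ : GrpObj H) (j : H ⟶ G) (φ : HK.left ⟶ H.left),
      IsMonHom j ∧ IsClosedImmersion j.left ∧ Flat H.hom ∧
      IsPullback φ HK.hom H.hom g ∧
      φ ≫ j.left = i.left ≫ pullback.fst G.hom g ∧ φ.ker = ⊥ := by
  have : QuasiCompact (pullback.fst G.hom g) :=
    MorphismProperty.pullback_fst (P := @QuasiCompact) _ _ ‹_›
  let f : HK.left ⟶ G.left := i.left ≫ pullback.fst G.hom g
  have : QuasiCompact f :=
    haveI : IsAffineHom i.left := inferInstance
    MorphismProperty.comp_mem @QuasiCompact _ _ inferInstance ‹_›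
  let H : Over S := Over.mk (f.imageι ≫ G.hom)
  let j : H ⟶ G := Over.homMk f.imageι
  have : IsClosedImmersion j.left := inferInstanceAs (IsClosedImmersion f.imageι)
  let φ : HK.left ⟶ H.left := f.toImage
  have hφj : φ ≫ j.left = i.left ≫ pullback.fst G.hom g := f.toImage_imageι
  have : IsSchemeTheoreticallyDominant φ := inferInstanceAs (IsSchemeTheoreticallyDominant f.toImage)
  have : QuasiCompact φ := inferInstanceAs (QuasiCompact f.toImage)
  have hw : φ ≫ H.hom = HK.hom ≫ g := by
    change f.toImage ≫ f.imageι ≫ G.hom = _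
    rw [Scheme.Hom.toImage_imageι_assoc, Category.assoc, pullback.condition, ← Category.assoc]
    exact congrArg (· ≫ g) (Over.w i)
  have : Flat H.hom := hfl H.hom HK.hom φ hw
  let φK : HK ⟶ Red.bc g H := Over.homMk (pullback.lift φ HK.hom hw) (pullback.lift_snd _ _ _)
  have hφK : φK ≫ (Over.pullback g).map j = i := by
    apply Over.OverMorphism.ext
    apply pullback.hom_ext
    · change (pullback.lift φ HK.hom hw ≫ pullback.lift _ _ _) ≫ _ = _
      rw [Category.assoc, pullback.lift_fst, pullback.lift_fst_assoc]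
      exact hφj
    · exact (Over.w (φK ≫ (Over.pullback g).map j)).trans (Over.w i).symm
  have hci : IsClosedImmersion φK.left := by
    have : IsClosedImmersion (φK.left ≫ ((Over.pullback g).map j).left) := by
      rw [← Over.comp_left, hφK]; infer_instance
    have : Mono ((Over.pullback g).map j).left := by
      refine ⟨fun a b hab => ?_⟩
      apply pullback.hom_ext
      · rw [← cancel_mono j.left, Category.assoc, Category.assoc]
        have h := congrArg (· ≫ pullback.fst G.hom g) hab
        simp only [Category.assoc, Over.pullback_map_left, pullback.lift_fst] at h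
        exact h
      · have h := congrArg (· ≫ pullback.snd G.hom g) hab
        simp only [Category.assoc, Over.pullback_map_left, pullback.lift_snd] at h
        exact h
    exact IsClosedImmersion.of_comp φK.left ((Over.pullback g).map j).left
  have hstd : IsSchemeTheoreticallyDominant φK.left := by
    have : Flat (pullback.fst H.hom g) := MorphismProperty.pullback_fst (P := @Flat) _ _ ‹_›
    have sq : IsPullback (𝟙 HK.left) φK.left φ (pullback.fst H.hom g) :=
      IsPullback.of_horiz_isIso_mono ⟨by
        rw [Category.id_comp]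
        exact (pullback.lift_fst φ HK.hom hw).symm⟩
    exact IsSchemeTheoreticallyDominant.of_isPullback sq
  have : IsIso φK.left := IsClosedImmersion.isIso_iff_ker_eq_bot.mpr hstd.ker_eq_bot
  have : IsIso φK :=
    have : IsIso ((Over.forget K).map φK) := ‹IsIso φK.left›
    isIso_of_reflects_iso φK (Over.forget K)
  have hj : Mono j := by
    have : Mono j.left := inferInstance
    exact Over.mono_of_mono_left j
  have hmapj : (Over.pullback g).map j = inv φK ≫ i := by
    rw [IsIso.eq_inv_comp, hφK]
  have hflat2 : Flat (H ⊗ H).hom := by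
    rw [← Over.w (fst H H)]
    exact MorphismProperty.comp_mem @Flat _ _
      (Groth.Agent.Lib.GrpSch.fst_left_of (P := @Flat) H ‹Flat H.hom›) ‹Flat H.hom›
  have : Flat (𝟙_ (Over S)).hom := MorphismProperty.id_mem (W := @Flat) S
  -- unit
  obtain ⟨e, he⟩ := exists_lift g j i φ hφj (𝟙_ (Over S)) (1 : 𝟙_ (Over S) ⟶ G) 1
    (by rw [Functor.map_one, MonObj.one_comp])
  -- multiplication
  obtain ⟨m, hm⟩ := exists_lift g j i φ hφj (H ⊗ H) ((fst H H ≫ j) * (snd H H ≫ j))
    (((Over.pullback g).map (fst H H) ≫ inv φK) * ((Over.pullback g).map (snd H H) ≫ inv φK))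
    (by simp only [Functor.map_mul, Functor.map_comp, hmapj, MonObj.mul_comp, Category.assoc])
  -- inverse
  obtain ⟨n, hn⟩ := exists_lift g j i φ hφj H (j⁻¹) (inv φK)⁻¹
    (by rw [GrpObj.inv_comp, ← hmapj, Functor.map_inv'])
  have hm' : m ≫ j = (j ⊗ₘ j) ≫ μ[G] := by
    rw [hm, Hom.mul_def, lift_fst_comp_snd_comp]
  have he' : e ≫ j = η[G] := by rw [he]; simp [Hom.one_def]
  let mo : MonObj H :=
    { one := e
      mul := m
      one_mul := by
        rw [← cancel_mono j, Category.assoc, hm', whiskerRight_comp_tensorHom_assoc, he',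
          MonoidalCategory.tensorHom_def', Category.assoc, MonObj.one_mul, leftUnitor_naturality]
      mul_one := by
        rw [← cancel_mono j, Category.assoc, hm', whiskerLeft_comp_tensorHom_assoc, he',
          MonoidalCategory.tensorHom_def, Category.assoc, MonObj.mul_one, rightUnitor_naturality]
      mul_assoc := by
        have e1 : (((j ⊗ₘ j) ≫ μ[G]) ⊗ₘ j) = ((j ⊗ₘ j) ⊗ₘ j) ≫ μ[G] ▷ G := by
          rw [MonoidalCategory.tensorHom_comp_whiskerRight]
        have e2 : (j ⊗ₘ ((j ⊗ₘ j) ≫ μ[G])) = (j ⊗ₘ (j ⊗ₘ j)) ≫ G ◁ μ[G] := by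
          rw [MonoidalCategory.tensorHom_comp_whiskerLeft]
        rw [← cancel_mono j]
        simp only [Category.assoc, hm', whiskerRight_comp_tensorHom_assoc,
          whiskerLeft_comp_tensorHom_assoc, e1, e2]
        rw [MonObj.mul_assoc, associator_naturality_assoc] }
  let gr : GrpObj H :=
    { mo with
      inv := n
      left_inv := by
        rw [← cancel_mono j]
        change (lift n (𝟙 H) ≫ m) ≫ j = (toUnit H ≫ e) ≫ j
        rw [Category.assoc, Category.assoc, hm', he', lift_map_assoc, hn, Category.id_comp,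
          ← Hom.mul_def, inv_mul_cancel, Hom.one_def]
      right_inv := by
        rw [← cancel_mono j]
        change (lift (𝟙 H) n ≫ m) ≫ j = (toUnit H ≫ e) ≫ j
        rw [Category.assoc, Category.assoc, hm', he', lift_map_assoc, hn, Category.id_comp,
          ← Hom.mul_def, mul_inv_cancel, Hom.one_def] }
  refine ⟨H, gr, j, φ, ⟨he', hm'⟩, ‹_›, ‹_›, ?_, hφj, Scheme.Hom.ker_eq_bot φ⟩
  exact IsPullback.of_iso_pullback ⟨hw⟩ (asIso φK.left) (pullback.lift_fst _ _ _)
    (pullback.lift_snd _ _ _)

end Groth.Agent.Lib.TorsorSch.Closure
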