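import Groth.Prelude.Def_ActBC
import Groth.Agent.Lib.TorsorSch.Basic

/-!
# Classes of scheme torsors
-/

universe u

open CategoryTheory MonoidalCategory CartesianMonoidalCategory MonObj AlgebraicGeometry
open CategoryTheory.Limits

namespace Groth.Agent.Lib.TorsorSch.Classes

variable {S : Scheme.{u}} {G : Over S} [GrpObj G] {K : Precoverage Scheme.{u}}

theorem equivalence :
    Equivalence (fun P Q : NonAbH1.TorsorSch G K ↦ Nonempty (NonAbH1.EquivIso P.act Q.act)) where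
  refl P := ⟨⟨Iso.refl _, by simp⟩⟩
  symm := fun {P Q} ⟨e⟩ ↦ ⟨⟨e.iso.symm, by
    rw [Iso.symm_hom, ← cancel_mono e.iso.hom]
    simp only [Category.assoc, Iso.inv_hom_id, Category.comp_id, e.comm]
    rw [← whiskerLeft_comp_assoc, Iso.inv_hom_id, whiskerLeft_id, Category.id_comp]⟩⟩
  trans := fun {P Q R} ⟨e⟩ ⟨e'⟩ ↦ ⟨⟨e.iso ≪≫ e'.iso, by
    rw [Iso.trans_hom, ← Category.assoc, e.comm, Category.assoc, e'.comm,
      ← whiskerLeft_comp_assoc]⟩⟩

/-- Two torsors have the same class iff they are equivariantly isomorphic. -/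
theorem cl_eq_iff (P Q : NonAbH1.TorsorSch G K) :
    P.cl = Q.cl ↔ Nonempty (NonAbH1.EquivIso P.act Q.act) :=
  ⟨fun h ↦ equivalence.eqvGen_iff.mp (Quot.eqvGen_exact h), fun h ↦ Quot.sound h⟩

/-- The orbit map of a section of a torsor is equivariant. -/
theorem isEquivariant_orbit {X : Over S} (a : AlgGrp.Action G X) (o : 𝟙_ (Over S) ⟶ X) :
    AlgGrp.Action.IsEquivariant (NonAbH1.trivialAction G) a
      (lift (𝟙 G) (toUnit G ≫ o) ≫ a.act) := by
  unfold AlgGrp.Action.IsEquivariant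
  change μ[G] ≫ _ = _
  have h : (μ[G] : G ⊗ G ⟶ G) = fst G G * snd G G := by
    rw [Hom.mul_def, lift_fst_snd, Category.id_comp]
  rw [h, comp_lift_assoc, Category.comp_id, comp_toUnit_assoc, GrpSch.act_mul]
  have h2 : (G ◁ (lift (𝟙 G) (toUnit G ≫ o) ≫ a.act)) =
      lift (fst G G) (lift (snd G G) (toUnit (G ⊗ G) ≫ o) ≫ a.act) := by
    ext
    · simp
    · simp [comp_lift_assoc]
  rw [h2]

/-- A torsor with a section is trivial, and conversely. -/
theorem cl_eq_one_iff [K.HasIsos] (hK : K ≤ Scheme.fpqcPrecoverage) (P : NonAbH1.TorsorSch G K) :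
    P.cl = 1 ↔ NonAbH1.HasSectionOver P.X (𝟙 S) := by
  constructor
  · intro h
    obtain ⟨e⟩ := (cl_eq_iff P _).mp h
    exact ⟨(η[G] ≫ e.iso.inv : 𝟙_ (Over S) ⟶ P.X).left, Over.w (η[G] ≫ e.iso.inv)⟩
  · rintro ⟨σ, hσ⟩
    let o : 𝟙_ (Over S) ⟶ P.X := Over.homMk σ hσ
    have hf := isEquivariant_orbit P.act o
    have := Groth.Agent.Lib.TorsorSch.Basic.isIso_of_isEquivariant
      (Groth.Agent.Lib.TorsorSch.Descent.isTorsorFor_mono hK
        (NonAbH1.isTorsorFor_trivialAction G K)) P.isTorsor.1 _ hf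
    exact Quot.sound (equivalence.symm
      (x := ⟨G, NonAbH1.trivialAction G, NonAbH1.isTorsorFor_trivialAction G K⟩)
      ⟨⟨asIso (lift (𝟙 G) (toUnit G ≫ o) ≫ P.act.act), hf⟩⟩)

/-- A section after base change gives a section over the base-change morphism, and conversely. -/
theorem hasSectionOver_bc_iff {S' : Scheme.{u}} (f : S' ⟶ S) (X : Over S) :
    NonAbH1.HasSectionOver (Red.bc f X) (𝟙 S') ↔ NonAbH1.HasSectionOver X f := by
  constructor
  · rintro ⟨σ, hσ⟩
    refine ⟨σ ≫ pullback.fst X.hom f, ?_⟩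
    rw [Category.assoc, pullback.condition, ← Category.assoc]
    exact (congrArg (· ≫ f) hσ).trans (Category.id_comp f)
  · rintro ⟨s, hs⟩
    exact ⟨pullback.lift s (𝟙 S') (by rw [hs, Category.id_comp]), pullback.lift_snd _ _ _⟩

end Groth.Agent.Lib.TorsorSch.Classes
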