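import Groth.Agent.Lib.TorsorSch.Ext
import Groth.Agent.Lib.TorsorSch.Field

/-!
# Torsors under finite flat groups over normal bases are determined by their generic fibres
-/

universe u

open CategoryTheory MonoidalCategory CartesianMonoidalCategory MonObj AlgebraicGeometry
open CategoryTheory.Limits TopologicalSpace
open scoped TensorProduct

namespace Groth.Agent.Lib.TorsorSch.ExtFinite

open Groth.Agent.Lib.TorsorSch.Ext Groth.Agent.Lib.TorsorSch.Basic

/-- Tensoring with a flat module commutes with the intersection of subrings. -/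
theorem mem_range_of_map_eq {A B K A' L : Type u} [CommRing A] [CommRing B] [CommRing K]
    [CommRing A'] [CommRing L] [Algebra A B] [Algebra A K] [Algebra A A'] [Algebra A L]
    [Module.Flat A B] (kL : K →ₐ[A] L) (aL : A' →ₐ[A] L)
    (hinter : ∀ (k : K) (x : A'), kL k = aL x → ∃ r : A, algebraMap A K r = k ∧ algebraMap A A' r = x)
    (x : B ⊗[A] K) (y : B ⊗[A] A')
    (h : kL.toLinearMap.lTensor B x = aL.toLinearMap.lTensor B y) :
    ∃ b : B, b ⊗ₜ[A] (1 : K) = x ∧ b ⊗ₜ[A] (1 : A') = y := by
  let d : K × A' →ₗ[A] L := kL.toLinearMap.coprod (-aL.toLinearMap)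
  let i : A →ₗ[A] K × A' := (Algebra.linearMap A K).prod (Algebra.linearMap A A')
  have hex : Function.Exact i d := by
    rw [LinearMap.exact_iff]
    apply le_antisymm
    · rintro ⟨k, z⟩ hk
      have hk' : kL k + -aL z = 0 := by simpa [d] using hk
      obtain ⟨r, h1, h2⟩ := hinter k z (by rwa [add_neg_eq_zero] at hk')
      exact ⟨r, by simp [i, h1, h2]⟩
    · rintro _ ⟨r, rfl⟩
      simp [i, d, -Algebra.linearMap_apply, Algebra.linearMap_apply]
  have hex' := Module.Flat.lTensor_exact B hex
  let z : B ⊗[A] (K × A') :=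
    (LinearMap.inl A K A').lTensor B x + (LinearMap.inr A K A').lTensor B y
  have hz : d.lTensor B z = 0 := by
    have e1 : d ∘ₗ LinearMap.inl A K A' = kL.toLinearMap := LinearMap.coprod_inl _ _
    have e2 : d ∘ₗ LinearMap.inr A K A' = -aL.toLinearMap := LinearMap.coprod_inr _ _
    simp only [z, map_add, ← LinearMap.comp_apply, ← LinearMap.lTensor_comp, e1, e2,
      LinearMap.lTensor_neg, LinearMap.neg_apply, h, add_neg_cancel]
  obtain ⟨w, hw⟩ := (hex' z).mp hz
  obtain ⟨b, rfl⟩ := (TensorProduct.rid A B).symm.surjective w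
  refine ⟨b, ?_, ?_⟩
  · have := congr((LinearMap.fst A K A').lTensor B $hw)
    simpa [z, i, ← LinearMap.comp_apply, ← LinearMap.lTensor_comp] using this
  · have := congr((LinearMap.snd A K A').lTensor B $hw)
    simpa [z, i, ← LinearMap.comp_apply, ← LinearMap.lTensor_comp] using this

set_option backward.isDefEq.respectTransparency false in
/-- Descent of a morphism to an affine scheme from `K` and `A'` to `A = K ∩ A'`. -/
theorem exists_desc_affine {A B K A' L C : CommRingCat.{u}} (β : A ⟶ B) (hβ : β.hom.Flat)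
    (κ : A ⟶ K) (hκ : Function.Injective κ.hom) (inc : A ⟶ A') (kL : K ⟶ L) (aL : A' ⟶ L)
    (comm : κ ≫ kL = inc ≫ aL)
    (hinter : ∀ (k : K) (x : A'), kL k = aL x → ∃ r : A, κ r = k ∧ inc r = x)
    (q : A ⟶ C) (hK : pullback (Spec.map β) (Spec.map κ) ⟶ Spec C)
    (hA : pullback (Spec.map β) (Spec.map inc) ⟶ Spec C)
    (hcompat : pullback.map (Spec.map β) (Spec.map (κ ≫ kL)) (Spec.map β) (Spec.map κ)
        (𝟙 _) (Spec.map kL) (𝟙 _) (by simp) (by simp [← Spec.map_comp]) ≫ hK =
      pullback.map (Spec.map β) (Spec.map (κ ≫ kL)) (Spec.map β) (Spec.map inc)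
        (𝟙 _) (Spec.map aL) (𝟙 _) (by simp) (by simp [← Spec.map_comp, comm]) ≫ hA)
    (hq : hK ≫ Spec.map q = pullback.snd _ _ ≫ Spec.map κ) :
    ∃ f : Spec B ⟶ Spec C, pullback.fst _ _ ≫ f = hK ∧ f ≫ Spec.map q = Spec.map β := by
  let := β.hom.toAlgebra
  let := κ.hom.toAlgebra
  let := inc.hom.toAlgebra
  let := (κ ≫ kL).hom.toAlgebra
  have : Module.Flat A B := hβ
  let kL' : K →ₐ[A] L := { kL.hom with commutes' := fun r ↦ rfl }
  let aL' : A' →ₐ[A] L :=
    { aL.hom with commutes' := fun r ↦ (ConcreteCategory.congr_hom comm r).symm }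
  let φK := Spec.preimage ((pullbackSpecIso A B K).inv ≫ hK)
  let φA := Spec.preimage ((pullbackSpecIso A B A').inv ≫ hA)
  have hφK : Spec.map φK = (pullbackSpecIso A B K).inv ≫ hK := Spec.map_preimage _
  have hφA : Spec.map φA = (pullbackSpecIso A B A').inv ≫ hA := Spec.map_preimage _
  have key : φK ≫ CommRingCat.ofHom (Algebra.TensorProduct.map (AlgHom.id B B) kL').toRingHom =
      φA ≫ CommRingCat.ofHom (Algebra.TensorProduct.map (AlgHom.id B B) aL').toRingHom := by
    have natK : Spec.map (CommRingCat.ofHom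
        (Algebra.TensorProduct.map (AlgHom.id B B) kL').toRingHom) ≫ (pullbackSpecIso A B K).inv =
        (pullbackSpecIso A B L).inv ≫ pullback.map (Spec.map β) (Spec.map (κ ≫ kL)) (Spec.map β)
          (Spec.map κ) (𝟙 _) (Spec.map kL) (𝟙 _) (by simp) (by simp [← Spec.map_comp]) := by
      apply pullback.hom_ext
      · rw [Category.assoc, pullbackSpecIso_inv_fst, Category.assoc]
        erw [pullback.lift_fst, Category.comp_id, pullbackSpecIso_inv_fst]
        rw [← Spec.map_comp]
        congr 1; ext b; simp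
      · rw [Category.assoc, pullbackSpecIso_inv_snd, Category.assoc]
        erw [pullback.lift_snd, pullbackSpecIso_inv_snd_assoc]
        rw [← Spec.map_comp, ← Spec.map_comp]
        congr 1
    have natA : Spec.map (CommRingCat.ofHom
        (Algebra.TensorProduct.map (AlgHom.id B B) aL').toRingHom) ≫ (pullbackSpecIso A B A').inv =
        (pullbackSpecIso A B L).inv ≫ pullback.map (Spec.map β) (Spec.map (κ ≫ kL)) (Spec.map β)
          (Spec.map inc) (𝟙 _) (Spec.map aL) (𝟙 _) (by simp) (by simp [← Spec.map_comp, comm]) := by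
      apply pullback.hom_ext
      · rw [Category.assoc, pullbackSpecIso_inv_fst, Category.assoc]
        erw [pullback.lift_fst, Category.comp_id, pullbackSpecIso_inv_fst]
        rw [← Spec.map_comp]
        congr 1; ext b; simp
      · rw [Category.assoc, pullbackSpecIso_inv_snd, Category.assoc]
        erw [pullback.lift_snd, pullbackSpecIso_inv_snd_assoc]
        rw [← Spec.map_comp, ← Spec.map_comp]
        congr 1
    apply Spec.map_injective
    rw [Spec.map_comp, Spec.map_comp, hφK, hφA, reassoc_of% natK, reassoc_of% natA, hcompat]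
  have hmem : ∀ c : C, ∃ b : B, b ⊗ₜ[A] (1 : K) = φK c := by
    intro c
    obtain ⟨b, hb, -⟩ := mem_range_of_map_eq kL' aL' hinter (φK c) (φA c)
      (ConcreteCategory.congr_hom key c)
    exact ⟨b, hb⟩
  have hinj : Function.Injective (fun b : B ↦ b ⊗ₜ[A] (1 : K)) := by
    have h1 := Module.Flat.lTensor_preserves_injective_linearMap (M := B)
      (Algebra.linearMap A K) hκ
    intro b b' hbb
    apply (TensorProduct.rid A B).symm.injective
    apply h1
    simpa using hbb
  choose g hg using hmem
  let ψ : C →+* B :=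
    { toFun := g
      map_one' := hinj (by simp only [hg, map_one]; rfl)
      map_mul' := fun c c' ↦ hinj (by
        simp only [hg, map_mul]; rw [← hg c, ← hg c', Algebra.TensorProduct.tmul_mul_tmul, _root_.mul_one])
      map_zero' := hinj (by simp only [hg, map_zero, TensorProduct.zero_tmul])
      map_add' := fun c c' ↦ hinj (by simp only [hg, map_add, TensorProduct.add_tmul]) }
  have hfst : pullback.fst (Spec.map β) (Spec.map κ) ≫ Spec.map (CommRingCat.ofHom ψ) = hK := by
    rw [← cancel_epi (pullbackSpecIso A B K).inv, ← hφK, ← Category.assoc]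
    erw [pullbackSpecIso_inv_fst]
    rw [← Spec.map_comp]
    congr 1; ext c; exact hg c
  refine ⟨Spec.map (CommRingCat.ofHom ψ), hfst, ?_⟩
  rw [← Spec.map_comp]
  congr 1
  ext r
  apply hinj
  have e : pullback.fst (Spec.map β) (Spec.map κ) ≫ Spec.map (q ≫ CommRingCat.ofHom ψ) =
      pullback.fst (Spec.map β) (Spec.map κ) ≫ Spec.map β := by
    rw [Spec.map_comp, reassoc_of% hfst, hq, pullback.condition]
  rw [← cancel_epi (pullbackSpecIso A B K).inv, ← Category.assoc, ← Category.assoc] at e
  erw [pullbackSpecIso_inv_fst] at e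
  rw [← Spec.map_comp, ← Spec.map_comp] at e
  exact ConcreteCategory.congr_hom (Spec.map_injective e) r

set_option backward.isDefEq.respectTransparency false in
/-- A field point of an integral-morphism scheme over an affine open extends to the integral
closure. -/
theorem exists_point_integralClosure {S : Scheme.{u}} {U : S.Opens} (hU : IsAffineOpen U)
    {L : Type u} [Field L] [Algebra Γ(S, U) L] (Y : Over S) [IsIntegralHom Y.hom]
    (r : Spec (CommRingCat.of L) ⟶ Y.left)
    (hr : r ≫ Y.hom = Spec.map (CommRingCat.ofHom (algebraMap Γ(S, U) L)) ≫ hU.fromSpec) :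
    ∃ σ : Spec (CommRingCat.of (integralClosure Γ(S, U) L)) ⟶ Y.left,
      σ ≫ Y.hom = Spec.map (CommRingCat.ofHom (algebraMap Γ(S, U) (integralClosure Γ(S, U) L))) ≫
        hU.fromSpec ∧
      Spec.map (CommRingCat.ofHom (integralClosure Γ(S, U) L).subtype) ≫ σ = r := by
  let V := Y.hom ⁻¹ᵁ U
  have hV : IsAffineOpen V := hU.preimage Y.hom
  have hrange : Set.range r ⊆ Set.range hV.fromSpec := by
    rw [hV.range_fromSpec]
    rintro _ ⟨z, rfl⟩
    change Y.hom (r z) ∈ U
    rw [← Scheme.Hom.comp_apply, hr, Scheme.Hom.comp_apply]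
    exact hU.range_fromSpec.subset ⟨_, rfl⟩
  let ρ := Spec.preimage (IsOpenImmersion.lift hV.fromSpec r hrange)
  have hρ : Spec.map ρ ≫ hV.fromSpec = r := by
    rw [Spec.map_preimage, IsOpenImmersion.lift_fac]
  have hρ' : Y.hom.app U ≫ ρ = CommRingCat.ofHom (algebraMap Γ(S, U) L) := by
    apply Spec.map_injective
    rw [← cancel_mono hU.fromSpec, Spec.map_comp, Category.assoc, Scheme.Hom.app_eq_appLE,
      IsAffineOpen.SpecMap_appLE_fromSpec Y.hom hU hV le_rfl, ← Category.assoc, hρ, hr]
  have hmem : ∀ b, ρ.hom b ∈ integralClosure Γ(S, U) L := fun b ↦ by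
    obtain ⟨p, hp, hpb⟩ := Y.hom.isIntegral_app U hU b
    refine ⟨p, hp, ?_⟩
    have := congr(ρ.hom $hpb)
    rwa [Polynomial.hom_eval₂, map_zero, ← CommRingCat.hom_comp, hρ'] at this
  let ρ' : CommRingCat.of Γ(Y.left, V) ⟶ CommRingCat.of (integralClosure Γ(S, U) L) :=
    CommRingCat.ofHom (ρ.hom.codRestrict (integralClosure Γ(S, U) L).toSubring hmem)
  refine ⟨Spec.map ρ' ≫ hV.fromSpec, ?_, ?_⟩
  · rw [Category.assoc, ← IsAffineOpen.SpecMap_appLE_fromSpec Y.hom hU hV le_rfl,
      ← Spec.map_comp_assoc, ← Scheme.Hom.app_eq_appLE]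
    congr 2
    ext a
    exact ConcreteCategory.congr_hom hρ' a
  · rw [← Spec.map_comp_assoc, ← hρ]
    rfl

set_option backward.isDefEq.respectTransparency false in
/-- Torsors under a finite flat group over a normal integral base which are isomorphic over the
generic point are isomorphic. -/
theorem nonempty_equivIso {S : Scheme.{u}} [IsIntegral S] (hS : Pi1.IsNormalScheme S)
    {G X X' : Over S} [GrpObj G] [IsFinite G.hom] [Flat G.hom]
    {a : AlgGrp.Action G X} {a' : AlgGrp.Action G X'}
    (ha : NonAbH1.IsTorsorFor Scheme.fpqcPrecoverage a)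
    (ha' : NonAbH1.IsTorsorFor Scheme.fpqcPrecoverage a')
    {h : X ⊗ genOver S ⟶ X'} (hh : EquivariantOver a a' h) :
    Nonempty (NonAbH1.EquivIso a a') := by
  have hXfin : IsFinite X.hom := of_hom (P := @IsFinite) ha inferInstance
  have hX'fin : IsFinite X'.hom := of_hom (P := @IsFinite) ha' inferInstance
  have : Flat X.hom := of_hom (P := @Flat) ha inferInstance
  have : Surjective X.hom := of_hom (P := @Surjective) ha
    ⟨fun x ↦ ⟨(η[G] : 𝟙_ _ ⟶ G).left x, congr($(Over.w η[G]) x)⟩⟩
  -- a geometric point of the generic fibre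
  set ξ := S.fromSpecStalk (genericPoint S) with hξ
  let Xη : Over (Spec (CommRingCat.of S.functionField)) := Over.mk (pullback.snd X.hom ξ)
  have : IsFinite Xη.hom := MorphismProperty.pullback_snd (P := @IsFinite) _ _ hXfin
  have : Nonempty Xη.left := by
    obtain ⟨x, hx⟩ := X.hom.surjective (genericPoint S)
    obtain ⟨z, -, -⟩ := Scheme.Pullback.exists_preimage_pullback (f := X.hom) (g := ξ) x
      (IsLocalRing.closedPoint _) (hx.trans Scheme.fromSpecStalk_closedPoint.symm)
    exact ⟨z⟩
  obtain ⟨L', _, _, _, x, -, hx, -⟩ := Groth.Agent.Lib.TorsorSch.Field.exists_field_point Xη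
  let L := AlgebraicClosure S.functionField
  let θ : L' →ₐ[S.functionField] L := IsAlgClosed.lift
  let tL : Spec (CommRingCat.of L) ⟶ Spec S.functionField :=
    Spec.map (CommRingCat.ofHom (algebraMap S.functionField L))
  let T₀ : Over S := Over.mk (tL ≫ ξ)
  let u : T₀ ⟶ genOver S := Over.homMk tL rfl
  let s : T₀ ⟶ X := Over.homMk (Spec.map (CommRingCat.ofHom θ.toRingHom) ≫ x ≫ pullback.fst _ _) (by
    simp only [Category.assoc, pullback.condition]
    change _ ≫ x ≫ Xη.hom ≫ ξ = tL ≫ ξ
    rw [reassoc_of% hx, ← Spec.map_comp_assoc, ← CommRingCat.ofHom_comp]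
    simp [tL])
  let s' : T₀ ⟶ X' := lift s u ≫ h
  -- local extensions
  have hloc : ∀ (U : S.Opens) (hU : IsAffineOpen U) [Nonempty U],
      ∃ f : Spec Γ(X.left, X.hom ⁻¹ᵁ U) ⟶ X'.left,
        f ≫ X'.hom = (hU.preimage X.hom).fromSpec ≫ X.hom ∧
        ∀ {Z : Scheme.{u}} (p : Z ⟶ Spec Γ(X.left, X.hom ⁻¹ᵁ U)) (z : Z ⟶ (X ⊗ genOver S).left),
          z ≫ (fst X (genOver S)).left = p ≫ (hU.preimage X.hom).fromSpec →
            z ≫ h.left = p ≫ f := by
    intro U hU _
    have := RatSection.isIntegrallyClosed_of_isNormalScheme hS hU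
    have := functionField_isFractionRing_of_isAffineOpen S U hU
    have hξU : Spec.map (S.germToFunctionField U) ≫ hU.fromSpec = ξ :=
      hU.fromSpecStalk_eq_fromSpecStalk _
    have hr : tL ≫ ξ = Spec.map (CommRingCat.ofHom (algebraMap Γ(S, U) L)) ≫ hU.fromSpec := by
      rw [← hξU, ← Spec.map_comp_assoc, IsScalarTower.algebraMap_eq Γ(S, U) S.functionField L]
      rfl
    obtain ⟨σl, hσl, hσs⟩ := exists_point_integralClosure hU X s.left ((Over.w s).trans hr)
    obtain ⟨σl', hσl', hσs'⟩ := exists_point_integralClosure hU X' s'.left ((Over.w s').trans hr)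
    let inc : Γ(S, U) ⟶ CommRingCat.of (integralClosure Γ(S, U) L) :=
      CommRingCat.ofHom (algebraMap Γ(S, U) (integralClosure Γ(S, U) L))
    let aL : CommRingCat.of (integralClosure Γ(S, U) L) ⟶ CommRingCat.of L :=
      CommRingCat.ofHom (integralClosure Γ(S, U) L).subtype
    let kL : S.functionField ⟶ CommRingCat.of L := CommRingCat.ofHom (algebraMap S.functionField L)
    let T₁ : Over S := Over.mk (Spec.map inc ≫ hU.fromSpec)
    let σ : T₁ ⟶ X := Over.homMk σl hσl
    let σ' : T₁ ⟶ X' := Over.homMk σl' hσl'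
    let v : T₀ ⟶ T₁ := Over.homMk (Spec.map aL) (by
      change Spec.map aL ≫ Spec.map inc ≫ hU.fromSpec = tL ≫ ξ
      rw [hr, ← Spec.map_comp_assoc]; rfl)
    have hvσ : v ≫ σ = s := Over.OverMorphism.ext hσs
    have hvσ' : v ≫ σ' = s' := Over.OverMorphism.ext hσs'
    have := isIso_triv a ha.1 σ
    have := isIso_triv a ha.1 (v ≫ σ)
    have key := trans_comp_eq u v σ σ' hh (by rw [hvσ', hvσ])
    set E := trans a a' σ σ'
    let W := X.hom ⁻¹ᵁ U
    have hW : IsAffineOpen W := hU.preimage X.hom
    let W' := X'.hom ⁻¹ᵁ U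
    have hW' : IsAffineOpen W' := hU.preimage X'.hom
    let β : Γ(S, U) ⟶ Γ(X.left, W) := X.hom.app U
    let q : Γ(S, U) ⟶ Γ(X'.left, W') := X'.hom.app U
    have hβ : Spec.map β ≫ hU.fromSpec = hW.fromSpec ≫ X.hom := by
      rw [← IsAffineOpen.SpecMap_appLE_fromSpec X.hom hU hW le_rfl, ← Scheme.Hom.app_eq_appLE]
    have hq : Spec.map q ≫ hU.fromSpec = hW'.fromSpec ≫ X'.hom := by
      rw [← IsAffineOpen.SpecMap_appLE_fromSpec X'.hom hU hW' le_rfl, ← Scheme.Hom.app_eq_appLE]
    let lK : pullback (Spec.map β) (Spec.map (S.germToFunctionField U)) ⟶ (X ⊗ genOver S).left :=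
      (Groth.Agent.Lib.GrpSch.isPullback_left X (genOver S)).lift
        (pullback.fst _ _ ≫ hW.fromSpec) (pullback.snd _ _)
        (by rw [Category.assoc, ← hβ, pullback.condition_assoc]; exact congrArg _ hξU)
    let lA : pullback (Spec.map β) (Spec.map inc) ⟶ (X ⊗ T₁).left :=
      (Groth.Agent.Lib.GrpSch.isPullback_left X T₁).lift
        (pullback.fst _ _ ≫ hW.fromSpec) (pullback.snd _ _)
        (by rw [Category.assoc, ← hβ, pullback.condition_assoc]; rfl)
    have hrK : Set.range (lK ≫ h.left) ⊆ Set.range hW'.fromSpec := by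
      rw [hW'.range_fromSpec]
      rintro _ ⟨z, rfl⟩
      change X'.hom ((lK ≫ h.left) z) ∈ U
      rw [← Scheme.Hom.comp_apply, Category.assoc, Over.w h,
        ← Over.w (fst X (genOver S)), ← Category.assoc, IsPullback.lift_fst, Category.assoc,
        ← hβ, Scheme.Hom.comp_apply, Scheme.Hom.comp_apply]
      exact hU.range_fromSpec.subset ⟨_, rfl⟩
    have hrA : Set.range (lA ≫ E.left) ⊆ Set.range hW'.fromSpec := by
      rw [hW'.range_fromSpec]
      rintro _ ⟨z, rfl⟩
      change X'.hom ((lA ≫ E.left) z) ∈ U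
      rw [← Scheme.Hom.comp_apply, Category.assoc, Over.w E,
        ← Over.w (fst X T₁), ← Category.assoc, IsPullback.lift_fst, Category.assoc,
        ← hβ, Scheme.Hom.comp_apply, Scheme.Hom.comp_apply]
      exact hU.range_fromSpec.subset ⟨_, rfl⟩
    obtain ⟨f, hf, hfq⟩ := exists_desc_affine β
      (by have := X.hom.flat_appLE hU hW le_rfl; rwa [← Scheme.Hom.app_eq_appLE] at this)
      (S.germToFunctionField U) (S.germToFunctionField_injective U) inc kL aL rfl (fun k y hky ↦ by
        have hky' : algebraMap S.functionField L k = (y : L) := hky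
        have hk : IsIntegral Γ(S, U) k :=
          (isIntegral_algebraMap_iff (algebraMap S.functionField L).injective).mp (hky' ▸ y.2)
        obtain ⟨r, hr⟩ := IsIntegrallyClosed.algebraMap_eq_of_integral hk
        refine ⟨r, hr, Subtype.ext ?_⟩
        rw [← hky', ← hr]
        rfl) q
      (IsOpenImmersion.lift hW'.fromSpec (lK ≫ h.left) hrK)
      (IsOpenImmersion.lift hW'.fromSpec (lA ≫ E.left) hrA)
      (by
        rw [← cancel_mono hW'.fromSpec, Category.assoc, Category.assoc, IsOpenImmersion.lift_fac,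
          IsOpenImmersion.lift_fac]
        let p : pullback (Spec.map β) (Spec.map (S.germToFunctionField U ≫ kL)) ⟶
            (X ⊗ T₀).left :=
          (Groth.Agent.Lib.GrpSch.isPullback_left X T₀).lift
            (pullback.fst _ _ ≫ hW.fromSpec) (pullback.snd _ _)
            (by
              rw [Category.assoc, ← hβ, pullback.condition_assoc, Spec.map_comp, Category.assoc]
              exact congrArg _ (congrArg (tL ≫ ·) hξU))
        refine Eq.trans (b := p ≫ ((X ◁ u) ≫ h).left) ?_ (Eq.trans (b := p ≫ ((X ◁ v) ≫ E).left)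
          (by rw [key]) ?_)
        · rw [Over.comp_left, ← Category.assoc, ← Category.assoc]
          congr 1
          apply (Groth.Agent.Lib.GrpSch.isPullback_left X (genOver S)).hom_ext
          · simp only [Category.assoc, ← Over.comp_left, whiskerLeft_fst]
            erw [IsPullback.lift_fst, IsPullback.lift_fst]
            rw [pullback.lift_fst_assoc, Category.comp_id]
          · simp only [Category.assoc, ← Over.comp_left, whiskerLeft_snd]
            erw [IsPullback.lift_snd, pullback.lift_snd, IsPullback.lift_snd_assoc]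
            rfl
        · rw [Over.comp_left, ← Category.assoc, ← Category.assoc]
          congr 1
          apply (Groth.Agent.Lib.GrpSch.isPullback_left X T₁).hom_ext
          · simp only [Category.assoc, ← Over.comp_left, whiskerLeft_fst]
            erw [IsPullback.lift_fst, IsPullback.lift_fst]
            rw [pullback.lift_fst_assoc, Category.comp_id]
          · simp only [Category.assoc, ← Over.comp_left, whiskerLeft_snd]
            erw [IsPullback.lift_snd, pullback.lift_snd, IsPullback.lift_snd_assoc]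
            rfl)
      (by
        rw [← cancel_mono hU.fromSpec, Category.assoc, hq, IsOpenImmersion.lift_fac_assoc,
          Category.assoc, Over.w h, Category.assoc, ← Over.w (snd X (genOver S))]
        erw [IsPullback.lift_snd_assoc]
        exact congrArg _ hξU.symm)
    refine ⟨f ≫ hW'.fromSpec, ?_, fun {Z} p z hz ↦ ?_⟩
    · rw [Category.assoc, ← hq, ← Category.assoc, hfq, hβ]
    · let zz : Z ⟶ pullback (Spec.map β) (Spec.map (S.germToFunctionField U)) :=
        pullback.lift p (z ≫ (snd X (genOver S)).left) (by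
          rw [← cancel_mono hU.fromSpec, Category.assoc, Category.assoc, hβ, Category.assoc]
          have := congr($hz ≫ X.hom)
          rw [Category.assoc, Category.assoc,
            (Groth.Agent.Lib.GrpSch.isPullback_left X (genOver S)).w] at this
          exact this.symm.trans (congrArg _ (congrArg _ hξU.symm)))
      have hzz : zz ≫ lK = z := by
        apply (Groth.Agent.Lib.GrpSch.isPullback_left X (genOver S)).hom_ext
        · simp only [Category.assoc, lK, IsPullback.lift_fst, zz, pullback.lift_fst_assoc, hz]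
        · simp only [Category.assoc, lK, IsPullback.lift_snd, zz, pullback.lift_snd]
      rw [← hzz, Category.assoc, ← IsOpenImmersion.lift_fac hW'.fromSpec (lK ≫ h.left) hrK, ← hf]
      simp [zz]
  -- glue
  let I := {U : S.Opens // IsAffineOpen U ∧ Nonempty U}
  choose fI hfI hfI' using fun i : I ↦ (have := i.2.2; hloc i.1 i.2.1)
  let 𝒰 : X.left.OpenCover := Scheme.Cover.mkOfCovers I
    (fun i ↦ Spec Γ(X.left, X.hom ⁻¹ᵁ i.1)) (fun i ↦ (i.2.1.preimage X.hom).fromSpec)
    (fun y ↦ by
      obtain ⟨U, hU, hy, -⟩ := Opens.isBasis_iff_nbhd.mp S.isBasis_affineOpens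
        (Opens.mem_top (X.hom y))
      refine ⟨⟨U, hU, ⟨⟨_, hy⟩⟩⟩, ?_⟩
      exact (hU.preimage X.hom).range_fromSpec.symm.subset hy)
  let fl : X.left ⟶ X'.left := 𝒰.glueMorphisms fI fun i j ↦ by
    have : Flat (pullback.fst (𝒰.f i) (𝒰.f j) ≫ 𝒰.f i ≫ X.hom) := by
      have : IsOpenImmersion (𝒰.f i) := 𝒰.map_prop i
      have : IsOpenImmersion (𝒰.f j) := 𝒰.map_prop j
      infer_instance
    let Z : Over S := Over.mk (pullback.fst (𝒰.f i) (𝒰.f j) ≫ 𝒰.f i ≫ X.hom)
    have : Flat Z.hom := this
    have e1 : (pullback.fst (𝒰.f i) (𝒰.f j) ≫ fI i) ≫ X'.hom = Z.hom := by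
      rw [Category.assoc, hfI i]; rfl
    have e2 : (pullback.snd (𝒰.f i) (𝒰.f j) ≫ fI j) ≫ X'.hom = Z.hom := by
      rw [Category.assoc, hfI j]
      exact (pullback.condition_assoc (f := 𝒰.f i) (g := 𝒰.f j) X.hom).symm
    have := hom_ext_generic (f := (Over.homMk _ e1 : Z ⟶ X')) (g := (Over.homMk _ e2 : Z ⟶ X'))
      (by
        apply Over.OverMorphism.ext
        simp only [Over.comp_left, Over.homMk_left]
        let z : (Z ⊗ genOver S).left ⟶ (X ⊗ genOver S).left :=
          ((Over.homMk (pullback.fst (𝒰.f i) (𝒰.f j) ≫ 𝒰.f i) (Category.assoc _ _ _) : Z ⟶ X) ▷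
            genOver S).left
        rw [← Category.assoc, ← Category.assoc, ← hfI' i _ z, hfI' j _ z]
        · simp only [z, ← Over.comp_left, whiskerRight_fst]
          exact ((congrArg _ pullback.condition).trans (Category.assoc _ _ _).symm)
        · simp only [z, ← Over.comp_left, whiskerRight_fst]
          exact (Category.assoc _ _ _).symm)
    exact congr(($this).left)
  let f : X ⟶ X' := Over.homMk fl (𝒰.hom_ext _ _ fun i ↦ by
    rw [Scheme.Cover.ι_glueMorphisms_assoc]; exact hfI i)
  refine Ext.nonempty_equivIso ha ha'.1 hh f ?_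
  apply Over.OverMorphism.ext
  refine Scheme.Cover.hom_ext (𝒰.pullback₁ (fst X (genOver S)).left) _ _ fun i ↦ ?_
  change pullback.fst _ (𝒰.f i) ≫ (fst X (genOver S)).left ≫ fl = pullback.fst _ (𝒰.f i) ≫ h.left
  rw [pullback.condition_assoc, Scheme.Cover.ι_glueMorphisms]
  exact (hfI' i _ _ pullback.condition).symm

end Groth.Agent.Lib.TorsorSch.ExtFinite
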