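import Groth.Agent.Lib.TorsorSch.Basic
import Groth.Agent.Lib.TorsorSch.NormalBase
import Groth.Agent.Lib.SchDense.Basic
import Groth.Prelude.Def_Neron

/-!
# Torsors under Néron models
-/

universe u

open CategoryTheory MonoidalCategory CartesianMonoidalCategory MonObj AlgebraicGeometry
open CategoryTheory.Limits

namespace Groth.Agent.Lib.TorsorSch.Neron

variable {S : Scheme.{u}}

/-- Morphisms between base changes are morphisms out of the product with the new base. -/
theorem bijective_pullback_map_iff {S' : Scheme.{u}} (d : S' ⟶ S) (Y N : Over S) :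
    Function.Bijective (fun f : Y ⟶ N => (Over.pullback d).map f) ↔
      Function.Bijective (fun f : Y ⟶ N => fst Y (Over.mk d) ≫ f) := by
  let φ : ((Over.pullback d).obj Y ⟶ (Over.pullback d).obj N) ≃ (Y ⊗ Over.mk d ⟶ N) :=
    { toFun := fun k ↦ Over.homMk (k.left ≫ pullback.fst N.hom d) (by
        rw [Category.assoc, pullback.condition, ← Category.assoc]
        exact (congrArg (· ≫ d) (Over.w k)).trans pullback.condition.symm)
      invFun := fun k ↦ Over.homMk (pullback.lift k.left (pullback.snd Y.hom d)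
        ((Over.w k).trans pullback.condition)) (pullback.lift_snd _ _ _)
      left_inv := fun k ↦ by
        apply Over.OverMorphism.ext
        apply pullback.hom_ext
        · exact pullback.lift_fst _ _ _
        · exact (pullback.lift_snd _ _ _).trans (Over.w k).symm
      right_inv := fun k ↦ Over.OverMorphism.ext (pullback.lift_fst _ _ _) }
  have h : φ ∘ (fun f : Y ⟶ N => (Over.pullback d).map f) =
      fun f : Y ⟶ N => fst Y (Over.mk d) ≫ f := by
    funext f
    exact Over.OverMorphism.ext (pullback.lift_fst _ _ _)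
  rw [← h]
  exact (φ.bijective.of_comp_iff' _).symm

/-- Torsors under a group with the Néron mapping property have it too. -/
theorem bijective_of_torsor {S' : Scheme.{u}} (d : S' ⟶ S) [IsSchemeTheoreticallyDominant d]
    [QuasiCompact d] {G X : Over S} [GrpObj G] [Smooth G.hom] [IsSeparated G.hom]
    [QuasiCompact G.hom]
    (hG : ∀ Y : Over S, Smooth Y.hom → Function.Bijective (fun f : Y ⟶ G => (Over.pullback d).map f))
    {a : AlgGrp.Action G X} (ha : NonAbH1.IsTorsorFor Scheme.fpqcPrecoverage a)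
    (Y : Over S) [Smooth Y.hom] :
    Function.Bijective (fun f : Y ⟶ X => (Over.pullback d).map f) := by
  have hXs : Smooth X.hom := Groth.Agent.Lib.TorsorSch.Basic.of_hom (P := @Smooth) ha inferInstance
  have hXsep : IsSeparated X.hom :=
    Groth.Agent.Lib.TorsorSch.Basic.of_hom (P := @IsSeparated) ha inferInstance
  have hXqc : QuasiCompact X.hom :=
    Groth.Agent.Lib.TorsorSch.Basic.of_hom (P := @QuasiCompact) ha inferInstance
  have hXsu : Surjective X.hom := Groth.Agent.Lib.TorsorSch.Basic.of_hom (P := @Surjective) ha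
    ⟨fun x ↦ ⟨(η[G] : 𝟙_ _ ⟶ G).left x, congr($(Over.w η[G]) x)⟩⟩
  have inj : ∀ (W : Over S), Flat W.hom →
      Function.Injective (fun f : W ⟶ X => fst W (Over.mk d) ≫ f) := fun W _ f g hfg ↦ by
    apply Groth.Agent.Lib.SchDense.Basic.pullback_map_injective (X := W) (Y := X) d
    apply Over.OverMorphism.ext
    apply pullback.hom_ext
    · simp only [Over.pullback_map_left, pullback.lift_fst]
      exact congr(($hfg).left)
    · simp only [Over.pullback_map_left, pullback.lift_snd]
  rw [bijective_pullback_map_iff]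
  refine ⟨inj Y inferInstance, fun y ↦ ?_⟩
  let T : Over S := Over.mk d
  let Y' : Over S := Y ⊗ X
  have hq1 : Smooth (fst Y X).left :=
    Groth.Agent.Lib.GrpSch.fst_left_of (P := @Smooth) Y hXs
  have hq2 : Surjective (fst Y X).left :=
    Groth.Agent.Lib.GrpSch.fst_left_of (P := @Surjective) Y hXsu
  have hq3 : QuasiCompact (fst Y X).left :=
    Groth.Agent.Lib.GrpSch.fst_left_of (P := @QuasiCompact) Y hXqc
  have hY' : Smooth Y'.hom := by
    rw [← Over.w (fst Y X)]
    exact MorphismProperty.comp_mem @Smooth _ _ hq1 inferInstance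
  have : IsIso (lift a.act (snd G X)) := ha.1
  let w : Y' ⊗ T ⟶ G ⊗ X :=
    lift ((fst Y X ▷ T) ≫ y) (fst Y' T ≫ snd Y X) ≫ inv (lift a.act (snd G X))
  obtain ⟨g, hg⟩ := ((bijective_pullback_map_iff d Y' G).mp (hG Y' hY')).2 (w ≫ fst G X)
  let z : Y' ⟶ X := lift g (snd Y X) ≫ a.act
  have hw : w ≫ lift a.act (snd G X) = lift ((fst Y X ▷ T) ≫ y) (fst Y' T ≫ snd Y X) := by
    simp only [w, Category.assoc, IsIso.inv_hom_id, Category.comp_id]
  have hw1 : w ≫ a.act = (fst Y X ▷ T) ≫ y := by simpa using congr($hw ≫ fst X X)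
  have hw2 : w ≫ snd G X = fst Y' T ≫ snd Y X := by simpa using congr($hw ≫ snd X X)
  have hz : fst Y' T ≫ z = (fst Y X ▷ T) ≫ y := by
    simp only [z, comp_lift_assoc]
    have hg' : fst Y' T ≫ g = w ≫ fst G X := hg
    rw [hg', ← hw2, lift_comp_fst_snd, hw1]
  have hdesc : ∀ {Z : Scheme.{u}} (g₁ g₂ : Z ⟶ Y'.left), g₁ ≫ (fst Y X).left = g₂ ≫ (fst Y X).left →
      g₁ ≫ z.left = g₂ ≫ z.left := by
    intro Z g₁ g₂ hgg
    let p := (fst Y X).left
    let W : Over S := Over.mk (pullback.fst p p ≫ Y'.hom)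
    let q₁ : W ⟶ Y' := Over.homMk (pullback.fst p p) rfl
    let q₂ : W ⟶ Y' := Over.homMk (pullback.snd p p) (by
      have e := Over.w (fst Y X)
      change pullback.snd p p ≫ Y'.hom = pullback.fst p p ≫ Y'.hom
      rw [← e]
      exact (pullback.condition_assoc _).symm)
    have hWs : Smooth W.hom := MorphismProperty.comp_mem @Smooth _ _
      (MorphismProperty.pullback_fst (P := @Smooth) p p hq1) hY'
    have hq : q₁ ≫ fst Y X = q₂ ≫ fst Y X := Over.OverMorphism.ext pullback.condition
    have heq : q₁ ≫ z = q₂ ≫ z := by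
      refine inj W inferInstance ?_
      change fst W T ≫ q₁ ≫ z = fst W T ≫ q₂ ≫ z
      have key : ∀ q : W ⟶ Y', fst W T ≫ q ≫ z = ((q ≫ fst Y X) ▷ T) ≫ y := fun q ↦ by
        rw [← whiskerRight_fst_assoc, hz, comp_whiskerRight, Category.assoc]
      rw [key, key, hq]
    have e : pullback.fst p p ≫ z.left = pullback.snd p p ≫ z.left := congr(($heq).left)
    rw [← pullback.lift_fst g₁ g₂ hgg, Category.assoc, e, pullback.lift_snd_assoc]
  have hw' : EffectiveEpi.desc (fst Y X).left z.left hdesc ≫ X.hom = Y.hom := by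
    rw [← cancel_epi (fst Y X).left, EffectiveEpi.fac_assoc]
    exact (Over.w z).trans (Over.w (fst Y X)).symm
  let f : Y ⟶ X := Over.homMk (EffectiveEpi.desc (fst Y X).left z.left hdesc) hw'
  refine ⟨f, ?_⟩
  have h1 : Smooth (fst Y X ▷ T).left :=
    Groth.Agent.Lib.GrpSch.whiskerRight_left_of (P := @Smooth) (fst Y X) T hq1
  have h2 : Surjective (fst Y X ▷ T).left :=
    Groth.Agent.Lib.GrpSch.whiskerRight_left_of (P := @Surjective) (fst Y X) T hq2
  have h3 : QuasiCompact (fst Y X ▷ T).left :=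
    Groth.Agent.Lib.GrpSch.whiskerRight_left_of (P := @QuasiCompact) (fst Y X) T hq3
  have : Epi (fst Y X ▷ T).left := inferInstance
  have : Epi (fst Y X ▷ T) := Over.epi_of_epi_left _
  have hf : fst Y X ≫ f = z :=
    Over.OverMorphism.ext (EffectiveEpi.fac (fst Y X).left z.left hdesc)
  change fst Y T ≫ f = y
  rw [← cancel_epi (fst Y X ▷ T), whiskerRight_fst_assoc, hf, hz]

end Groth.Agent.Lib.TorsorSch.Neron
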